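import Groth.Agent.HomCorrLib.Family
import Groth.Agent.TransLiftLib.Affine
import Groth.Agent.MultLiftLib.Eq
import Groth.Agent.TorusFieldLib.Scheme
import Groth.Agent.DescHomLib.MultBC
import Mathlib.AlgebraicGeometry.Group.Affine

/-!
Groups of multiplicative type over an affine base are spectra of Hopf algebras of multiplicative type.
-/

set_option autoImplicit false
set_option backward.isDefEq.respectTransparency false

noncomputable section

universe u

open CategoryTheory CategoryTheory.Limits MonoidalCategory CartesianMonoidalCategory AlgebraicGeometry CoactBr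
open scoped MonObj TensorProduct

namespace Groth.Agent.HomCorr

open Groth.Agent.FreeAct (DA)
open Groth.Agent.DiagRep (GLBasis baseHom bcHom exists_pt)

attribute [local instance] CoactBr.braidedAlgSpecOf

variable {R : Type u} [CommRing R]

/-- The Hopf algebra of an affine group scheme over an affine base. -/
theorem exists_hopf (L : Over (Spec (CommRingCat.of R))) [GrpObj L] [IsAffine L.left] :
    ∃ (A : Type u) (_ : CommRing A) (_ : HopfAlgebra R A) (v : sp R A ≅ L), IsMonHom v.hom ∧ IsMonHom v.inv := by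
  obtain ⟨H, ⟨e⟩⟩ : (hopfSpec (CommRingCat.of R)).essImage (Grp.mk L) :=
    (essImage_hopfSpec (R := CommRingCat.of R) (G := Grp.mk L)).2 inferInstance
  refine ⟨H.unop.X, H.unop.commRing, H.unop.hopfAlgebra, (Grp.forget _).mapIso e, ?_, ?_⟩
  · exact e.hom.hom.isMonHom_hom
  · exact e.inv.hom.isMonHom_hom

variable {A : Type u} [CommRing A] [HopfAlgebra R A]

theorem exists_split_of_iso {B : Type u} [CommRing B] [Algebra R B] {M : Type} [AddCommGroup M] {C : Type u}
    [CommRing C] [HopfAlgebra B C] (E : GLBasis B M C) (v : sp B (B ⊗[R] A) ≅ sp B C) [IsMonHom v.hom] :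
    Nonempty (TorusField.Split R A M B) := by
  obtain ⟨f, hf⟩ := exists_pt v.hom
  obtain ⟨f', hf'⟩ := exists_pt v.inv
  haveI : IsMonHom (pt f) := hf ▸ inferInstance
  have h1 : f'.comp f = AlgHom.id B C := pt_injective (by rw [pt_comp, ← hf, ← hf', v.inv_hom_id, pt_id])
  have h2 : f.comp f' = AlgHom.id B (B ⊗[R] A) := pt_injective (by rw [pt_comp, ← hf, ← hf', v.hom_inv_id, pt_id])
  let φ : C ≃ₐ[B] B ⊗[R] A := AlgEquiv.ofAlgHom f f' h2 h1
  refine ⟨{
    e := E.e.map φ.toLinearEquiv
    e_zero := by simp [E.e_zero]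
    e_add := fun a b => by simp [← E.e_mul]
    gl := fun a => ?_ }⟩
  rw [Module.Basis.map_apply]
  show TorusField.IsGL R A B (f (E.e a))
  refine DiagHopf.isGL_of_groupLike ?_ ?_
  · have h := congrArg (fun x : WithConv (C →ₐ[B] (B ⊗[R] A) ⊗[B] (B ⊗[R] A)) => x (E.e a))
      (DiagRep.comul_comp_of_isMonHom f)
    simp only [AlgHom.convMul_apply, E.comul_e] at h
    simpa [Algebra.TensorProduct.tmul_mul_tmul] using h
  · have h := DFunLike.congr_fun (DiagRep.counit_comp_of_isMonHom f) (E.e a)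
    simpa [E.counit_e] using h

/-- A group of multiplicative type over an affine base has a Hopf algebra of multiplicative type. -/
theorem isMultType_of_locally {H : Over (Spec (CommRingCat.of R))} [GrpObj H] (v : sp R A ⟶ H) [IsIso v] [IsMonHom v]
    (hH : TwC.Locally (Spec (CommRingCat.of R)) TwC.Topology.fpqc (fun S' f => ∃ (M : Type) (_ : AddCommGroup M),
      Nonempty (Grp.mk (Red.bc f H) ≅ Grp.mk (Red.DS S' M)))) : SGA3b.IsMultType R A := by
  classical
  obtain ⟨S', f, hflat, hsurj, hcov, hloc⟩ := hH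
  haveI := hflat
  obtain ⟨W, hW, hWV⟩ := hcov ⊤ (isAffineOpen_top _)
  have hex : ∀ x : S', ∃ (T : S'.Opens) (B : Type u) (_ : CommRing B) (_ : Algebra R B) (M : Type) (_ : AddCommGroup M),
      x ∈ T ∧ Module.Flat R B ∧ (∀ y ∈ T, f y ∈ Set.range (PrimeSpectrum.comap (algebraMap R B))) ∧
        Nonempty (TorusField.Split R A M B) := by
    intro x
    obtain ⟨U, hxU, M, _, ⟨e⟩⟩ := hloc x
    obtain ⟨T, hT, hxT, hTU⟩ := exists_isAffineOpen_mem_and_subset (X := S') (x := x) (U := U) hxU
    haveI : IsAffine (T : Scheme.{u}) := hT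
    let B : Type u := Γ((T : Scheme.{u}), ⊤)
    let i : Spec (CommRingCat.of B) ⟶ (T : Scheme.{u}) := (T : Scheme.{u}).isoSpec.inv
    obtain ⟨φ, hφ⟩ := Spec.map_surjective (i ≫ T.ι ≫ f)
    letI : Algebra R B := φ.hom.toAlgebra
    have hp : baseHom R B = i ≫ T.ι ≫ f := by
      show Spec.map (CommRingCat.ofHom φ.hom) = _
      rw [CommRingCat.ofHom_hom, hφ]
    obtain ⟨w, hw⟩ := MultLift.exists_split_iso e (i ≫ S'.homOfLE hTU) (baseHom R B) (by
      rw [Category.assoc, Scheme.homOfLE_ι_assoc, hp])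
    haveI := hw
    let P := (Over.pullback (baseHom R B)).map v
    haveI hb : IsMonHom (M := Red.bc (baseHom R B) (sp R A)) (N := Red.bc (baseHom R B) H) P :=
      @Functor.map.instIsMonHom _ _ _ _ _ _ (Over.pullback (baseHom R B)) _ _ _ _ _ v _
    haveI : IsIso (bcHom R B A) := inferInstance
    haveI : IsMonHom (asIso (bcHom R B A)).hom := DiagRep.isMonHom_bcHom R B A
    haveI : IsMonHom (asIso P).hom := hb
    let t : sp B (B ⊗[R] A) ≅ sp B (DA B M) := (asIso (bcHom R B A)).symm ≪≫ asIso P ≪≫ w.symm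
    haveI : IsMonHom t.hom := by
      show IsMonHom ((asIso (bcHom R B A)).inv ≫ (asIso P).hom ≫ w.inv)
      infer_instance
    refine ⟨T, B, inferInstance, inferInstance, M, inferInstance, hxT, ?_, ?_,
      exists_split_of_iso (DiagRep.monoidAlgebraBasis B M) t⟩
    · refine RingHom.flat_algebraMap_iff.1 ?_
      have : Flat (baseHom R B) := by rw [hp]; infer_instance
      rwa [HasRingHomProperty.Spec_iff (P := @Flat)] at this
    · intro y hy
      refine ⟨(T : Scheme.{u}).isoSpec.hom ⟨y, hy⟩, ?_⟩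
      show (baseHom R B) _ = f y
      rw [hp]
      show (T.ι ≫ f) (((T : Scheme.{u}).isoSpec.hom ≫ (T : Scheme.{u}).isoSpec.inv) ⟨y, hy⟩) = f y
      rw [Iso.hom_inv_id]
      rfl
  choose T B iB aB M iM hxT hfl hrange hE using hex
  obtain ⟨t, ht⟩ := hW.elim_finite_subcover (fun x : S' => (T x : Set S')) (fun x => (T x).2)
    fun x _ => Set.mem_iUnion.2 ⟨x, hxT x⟩
  letI := iB; letI := aB; letI := iM
  haveI := hfl
  refine isMultType_of_family (S := fun x : (t : Set S') => B x.1) (N := fun x => M x.1) (fun p => ?_)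
    fun x => (exists_reindex (hE x.1).some AddEquiv.ulift.symm).some
  obtain ⟨y, hy, rfl⟩ : p ∈ f.base '' (W : Set S') := by rw [hWV]; trivial
  obtain ⟨x, hx, hyx⟩ := Set.mem_iUnion₂.1 (ht hy)
  exact ⟨⟨x, hx⟩, hrange x y hyx⟩

theorem exists_small (M : Type u) [AddCommGroup M] [AddGroup.FG M] :
    ∃ (M' : Type) (_ : AddCommGroup M'), AddGroup.FG M' ∧ Nonempty (M ≃+ M') := by
  classical
  obtain ⟨n, κ, _, p, _, k, ⟨e⟩⟩ := AddCommGroup.equiv_free_prod_directSum_zmod M
  exact ⟨_, inferInstance, AddGroup.fg_of_surjective (f := e.toAddMonoidHom) e.surjective, ⟨e⟩⟩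

/-- A splitting of type `M` gives the diagonalisable group scheme. -/
theorem exists_iso_DS_of_split {H : Over (Spec (CommRingCat.of R))} [GrpObj H] (v : sp R A ⟶ H) [IsIso v] [IsMonHom v]
    {B : Type u} [CommRing B] [Algebra R B] {M : Type} [AddCommGroup M] (E : TorusField.Split R A M B) :
    Nonempty (Grp.mk (Red.bc (baseHom R B) H) ≅ Grp.mk (Red.DS (Spec (CommRingCat.of B)) M)) := by
  let E' : GLBasis B M (B ⊗[R] A) :=
    { e := E.e
      e_zero := E.e_zero
      e_mul := fun a b => (E.e_add a b).symm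
      comul_e := fun a => (DiagHopf.groupLike_of_isGL (E.gl a)).comul_eq_tmul_self
      counit_e := fun a => (DiagHopf.groupLike_of_isGL (E.gl a)).counit_eq_one }
  obtain ⟨u, hu, -⟩ := TorusField.exists_iso_of_basis (DiagRep.monoidAlgebraBasis B M) E'
  obtain ⟨w₀, hw₀, -⟩ := TorusField.exists_DS_iso B M
  haveI := hu
  haveI := hw₀
  let P := (Over.pullback (baseHom R B)).map v
  haveI hb : IsMonHom (M := Red.bc (baseHom R B) (sp R A)) (N := Red.bc (baseHom R B) H) P :=
    @Functor.map.instIsMonHom _ _ _ _ _ _ (Over.pullback (baseHom R B)) _ _ _ _ _ v _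
  haveI : IsIso (bcHom R B A) := inferInstance
  haveI : IsMonHom (asIso (bcHom R B A)).hom := DiagRep.isMonHom_bcHom R B A
  haveI : IsMonHom (asIso P).hom := hb
  let w : Red.bc (baseHom R B) H ≅ Red.DS (Spec (CommRingCat.of B)) M :=
    (asIso P).symm ≪≫ asIso (bcHom R B A) ≪≫ u ≪≫ w₀
  haveI : IsMonHom w.hom := by
    show IsMonHom ((asIso P).inv ≫ (asIso (bcHom R B A)).hom ≫ u.hom ≫ w₀.hom)
    infer_instance
  exact ⟨Grp.mkIso' w⟩

/-- The spectrum of a finitely generated Hopf algebra of multiplicative type. -/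
theorem isMultTypeFT_of_isMultType {H : Over (Spec (CommRingCat.of R))} [GrpObj H] (v : sp R A ⟶ H) [IsIso v]
    [IsMonHom v] [Algebra.FiniteType R A] (hA : SGA3b.IsMultType R A) : SGA3x.IsMultTypeFT H := by
  classical
  obtain ⟨κ, _, S, _, _, N, _, hff, hE⟩ := DiagHopf.exists_family_split hA
  haveI := hff
  have hM : ∀ i, ∃ (M : Type) (_ : AddCommGroup M), AddGroup.FG M ∧
      Nonempty (Grp.mk (Red.bc (baseHom R (S i)) H) ≅ Grp.mk (Red.DS (Spec (CommRingCat.of (S i))) M)) := fun i => by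
    obtain ⟨E⟩ := hE i
    rcases subsingleton_or_nontrivial (S i) with h | h
    · haveI : Subsingleton (S i ⊗[R] A) := Module.subsingleton (S i) _
      let b : Module.Basis (ULift.{0} PUnit.{1}) (S i) (S i ⊗[R] A) := Module.Basis.ofRepr
        { toFun := fun _ => 0, map_add' := fun _ _ => Subsingleton.elim _ _, map_smul' := fun _ _ => Subsingleton.elim _ _,
          invFun := fun _ => 0, left_inv := fun _ => Subsingleton.elim _ _, right_inv := fun _ => Subsingleton.elim _ _ }
      exact ⟨ULift.{0} PUnit.{1}, inferInstance, inferInstance, exists_iso_DS_of_split v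
        { e := b, e_zero := Subsingleton.elim _ _, e_add := fun _ _ => Subsingleton.elim _ _,
          gl := fun _ => ⟨@Subsingleton.elim _ (Module.subsingleton (S i) _) _ _, Subsingleton.elim _ _⟩ }⟩
    · haveI : AddGroup.FG (Additive (N i)) := AddGroup.fg_iff_addMonoid_fg.2 (DiagHopf.fg_of_split' E)
      obtain ⟨M, _, hM, ⟨φ⟩⟩ := exists_small (Additive (N i))
      obtain ⟨E'⟩ := exists_reindex E φ
      exact ⟨M, inferInstance, hM, exists_iso_DS_of_split v E'⟩
  choose M iM hfg hiso using hM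
  let T : Scheme.{u} := Spec (CommRingCat.of (Π i, S i))
  let f : T ⟶ Spec (CommRingCat.of R) := baseHom R (Π i, S i)
  haveI : Flat f := by
    rw [HasRingHomProperty.Spec_iff (P := @Flat)]
    exact RingHom.flat_algebraMap_iff.2 inferInstance
  haveI : Surjective f := ⟨PrimeSpectrum.comap_surjective_of_faithfullyFlat⟩
  refine ⟨T, f, inferInstance, inferInstance, fun V hV => ?_, fun z => ?_⟩
  · haveI : QuasiCompact f := inferInstance
    exact ⟨f ⁻¹ᵁ V, f.isCompact_preimage hV.isCompact, Set.image_preimage_eq _ f.surjective⟩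
  · obtain ⟨⟨i, P⟩, hP⟩ := (PrimeSpectrum.sigmaToPi_bijective S).2 z
    let j : Spec (CommRingCat.of (S i)) ⟶ T := Spec.map (CommRingCat.ofHom (Pi.evalRingHom S i))
    haveI : IsOpenImmersion j := by
      have e := ι_sigmaSpec (fun i => CommRingCat.of (S i)) i
      show IsOpenImmersion (Spec.map (CommRingCat.ofHom (Pi.evalRingHom S i)))
      exact e ▸ inferInstance
    obtain ⟨e⟩ := hiso i
    refine ⟨j.opensRange, ⟨P, hP⟩, M i, inferInstance, hfg i, ?_⟩
    let l := j.isoOpensRange.inv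
    have hl : l ≫ baseHom R (S i) = j.opensRange.ι ≫ f := by
      rw [← cancel_epi j.isoOpensRange.hom, Iso.hom_inv_id_assoc, Scheme.Hom.isoOpensRange_hom_ι_assoc]
      show Spec.map _ = Spec.map _ ≫ Spec.map _
      rw [← Spec.map_comp]
      rfl
    let e₁ : Red.bc (baseHom R (S i)) H ≅ Red.DS _ (M i) := (Grp.forget _).mapIso e
    haveI : IsMonHom e₁.hom := e.hom.hom.isMonHom_hom
    let b : Red.bc l (Red.bc (baseHom R (S i)) H) ≅ Red.bc (j.opensRange.ι ≫ f) H := ActBC.bcCompIso l _ H hl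
    let c : Red.bc l (Red.DS _ (M i)) ≅ Red.DS (j.opensRange : Scheme.{u}) (M i) :=
      ActBC.bcCompIso l _ _ (specULiftZIsTerminal.hom_ext _ _)
    haveI : IsMonHom b.hom := ActBC.bcCompIso_isMonHom _ _ _
    haveI : IsMonHom b.inv := inferInstance
    haveI : IsMonHom c.hom := ActBC.bcCompIso_isMonHom _ _ _
    haveI hm : IsMonHom (M := Red.bc l (Red.bc (baseHom R (S i)) H)) (N := Red.bc l (Red.DS _ (M i)))
        ((Over.pullback l).map e₁.hom) :=
      @Functor.map.instIsMonHom _ _ _ _ _ _ (Over.pullback l) _ _ _ _ _ e₁.hom _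
    let w : Red.bc (j.opensRange.ι ≫ f) H ≅ Red.DS (j.opensRange : Scheme.{u}) (M i) :=
      b.symm ≪≫ (Over.pullback l).mapIso e₁ ≪≫ c
    haveI : IsMonHom w.hom := by
      show IsMonHom (b.inv ≫ (Over.pullback l).map e₁.hom ≫ c.hom)
      infer_instance
    exact ⟨Grp.mkIso' w⟩

end Groth.Agent.HomCorr
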