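import Groth.Agent.HomCorrLib.Immersion
import Groth.Agent.HomCorrLib.Bridge
import Groth.Agent.FlatLiftLib.Main
import Groth.Agent.QIsoLib.Main
import Groth.Agent.HopfDescLib.Lift
import Groth.Agent.FinMultLib.Normal

/-!
Subgroups of multiplicative type of smooth groups lift along nilpotent ideals.
-/

set_option autoImplicit false
set_option backward.isDefEq.respectTransparency false

noncomputable section

universe u

open CategoryTheory CategoryTheory.Limits MonoidalCategory CartesianMonoidalCategory AlgebraicGeometry CoactBr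
open scoped MonObj TensorProduct

namespace Groth.Agent.HomCorr

attribute [local instance] CoactBr.braidedAlgSpecOf

open PowEtCentralLib (res inc)
open Groth.Agent.DiagRep (bcHom)

variable {R : Type u} [CommRing R] {J : Ideal R}

theorem finiteType_of_nilpotent (hJ : IsNilpotent J) {A : Type u} [CommRing A] [Algebra R A]
    (h : Algebra.FiniteType (R ⧸ J) ((R ⧸ J) ⊗[R] A)) : Algebra.FiniteType R A := by
  classical
  obtain ⟨s, hs⟩ := h.out
  choose g hg using fun x : (R ⧸ J) ⊗[R] A => HopfLift.exists_one_tmul J x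
  let B : Subalgebra R A := Algebra.adjoin R (g '' (s : Set ((R ⧸ J) ⊗[R] A)))
  have hB : ∀ x ∈ Algebra.adjoin (R ⧸ J) (s : Set ((R ⧸ J) ⊗[R] A)), ∃ b ∈ B, (1 : R ⧸ J) ⊗ₜ[R] b = x := by
    intro x hx
    refine Algebra.adjoin_induction (fun y hy => ⟨g y, Algebra.subset_adjoin ⟨y, hy, rfl⟩, hg y⟩) (fun c => ?_)
      (fun p q _ _ hp hq => ?_) (fun p q _ _ hp hq => ?_) hx
    · obtain ⟨r, rfl⟩ := Ideal.Quotient.mk_surjective c
      refine ⟨algebraMap R A r, B.algebraMap_mem r, ?_⟩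
      rw [Algebra.algebraMap_eq_smul_one, TensorProduct.tmul_smul, ← Algebra.TensorProduct.one_def]
      exact (Algebra.algebraMap_eq_smul_one r).symm.trans (IsScalarTower.algebraMap_apply R (R ⧸ J) _ r)
    · obtain ⟨a, ha, rfl⟩ := hp
      obtain ⟨b, hb, rfl⟩ := hq
      exact ⟨a + b, B.add_mem ha hb, TensorProduct.tmul_add _ _ _⟩
    · obtain ⟨a, ha, rfl⟩ := hp
      obtain ⟨b, hb, rfl⟩ := hq
      exact ⟨a * b, B.mul_mem ha hb, by rw [Algebra.TensorProduct.tmul_mul_tmul, one_mul]⟩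
  obtain ⟨n, hn⟩ := hJ
  have key : ∀ k : ℕ, (⊤ : Submodule R A) ≤ Subalgebra.toSubmodule B ⊔ J ^ k • ⊤ := by
    intro k
    induction k with
    | zero =>
      rw [pow_zero, Ideal.one_eq_top, Submodule.top_smul]
      exact le_sup_right
    | succ k ih =>
      refine ih.trans (sup_le le_sup_left ?_)
      have h1 : (⊤ : Submodule R A) ≤ Subalgebra.toSubmodule B ⊔ J • ⊤ := fun a _ => by
        obtain ⟨b, hb, hab⟩ := hB ((1 : R ⧸ J) ⊗ₜ[R] a) (by rw [hs]; exact Algebra.mem_top)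
        have : a - b ∈ J • (⊤ : Submodule R A) := by
          rw [Ideal.smul_top_eq_map]
          show a - b ∈ Ideal.map (algebraMap R A) J
          rw [← HopfLift.one_tmul_eq_zero_iff, TensorProduct.tmul_sub, hab, sub_self]
        rw [show a = b + (a - b) by ring]
        exact Submodule.add_mem_sup hb this
      calc J ^ k • (⊤ : Submodule R A) ≤ J ^ k • (Subalgebra.toSubmodule B ⊔ J • ⊤) := Submodule.smul_mono le_rfl h1
        _ ≤ Subalgebra.toSubmodule B ⊔ J ^ (k + 1) • ⊤ := by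
          rw [Submodule.smul_sup, pow_succ, Submodule.mul_smul]
          exact sup_le_sup_right Submodule.smul_le_right _
  have htop : B = ⊤ := by
    refine top_le_iff.1 fun a _ => ?_
    have := key n (Submodule.mem_top (x := a))
    rw [hn, Submodule.zero_eq_bot, Submodule.bot_smul, sup_bot_eq] at this
    exact this
  exact ⟨⟨s.image g, by rw [Finset.coe_image]; exact htop⟩⟩

set_option maxHeartbeats 1000000 in
/-- Subgroups of multiplicative type lift, with flat group of multiplicative type and finite type. -/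
theorem exists_subgroup_lift (hJ : IsNilpotent J) (G : Over (Spec (CommRingCat.of R))) [GrpObj G] [Smooth G.hom]
    (H₀ : Over (Spec (CommRingCat.of (R ⧸ J)))) [GrpObj H₀]
    (hH₀ : TwC.Locally (Spec (CommRingCat.of (R ⧸ J))) TwC.Topology.fpqc (fun S' f => ∃ (M : Type) (_ : AddCommGroup M),
      Nonempty (Grp.mk (Red.bc f H₀) ≅ Grp.mk (Red.DS S' M))))
    (j₀ : H₀ ⟶ Red.bc (jJ J) G) [IsMonHom j₀] [IsImmersion j₀.left] :
    ∃ (H : Over (Spec (CommRingCat.of R))) (_ : GrpObj H) (j : H ⟶ G), IsMonHom j ∧ IsImmersion j.left ∧ Flat H.hom ∧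
      SGA3x.IsMultTypeFT H ∧
      ∃ φ : Red.bc (jJ J) H ≅ H₀, IsMonHom φ.hom ∧ φ.hom ≫ j₀ = (Over.pullback (jJ J)).map j := by
  have hJ' : ∀ x ∈ J, IsNilpotent x := fun x hx => by
    obtain ⟨n, hn⟩ := hJ
    refine ⟨n, ?_⟩
    have h := Ideal.pow_mem_pow hx n
    rw [hn] at h
    exact h
  haveI := TransLift.isAffineHom_of_locally hH₀
  haveI : IsAffine H₀.left := isAffine_of_isAffineHom H₀.hom
  obtain ⟨A₀, _, _, v₀, hv₀, hv₀'⟩ := exists_hopf H₀
  haveI := hv₀
  have hA₀ := isMultType_of_locally v₀.hom hH₀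
  haveI : Algebra.FiniteType (R ⧸ J) A₀ := by
    haveI : Smooth (Red.bc (jJ J) G).hom := inferInstanceAs (Smooth (pullback.snd G.hom (jJ J)))
    haveI : LocallyOfFiniteType H₀.hom := by rw [← Over.w j₀]; infer_instance
    haveI : IsIso v₀.hom.left := (Over.forget _).map_isIso v₀.hom
    haveI : LocallyOfFiniteType (sp (R ⧸ J) A₀).hom := by rw [← Over.w v₀.hom]; infer_instance
    have h : (algebraMap (R ⧸ J) A₀).FiniteType :=
      (HasRingHomProperty.Spec_iff (P := @LocallyOfFiniteType) (φ := CommRingCat.ofHom (algebraMap (R ⧸ J) A₀))).1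
        (inferInstance : LocallyOfFiniteType (sp (R ⧸ J) A₀).hom)
    exact RingHom.finiteType_algebraMap.1 h
  obtain ⟨A, _, _, hq, ⟨e⟩⟩ := HopfDesc.quasiIsotrivial_lifts hJ' A₀
    (QIso.isQuasiIsotrivial_of_finiteType inferInstance hA₀)
  have hA := FlatLift.isMultType_of_isQuasiIsotrivial hq
  haveI : Algebra.FiniteType R A := finiteType_of_nilpotent hJ
    (Algebra.FiniteType.equiv (inferInstance : Algebra.FiniteType (R ⧸ J) A₀) (e : (R ⧸ J) ⊗[R] A ≃ₐ[R ⧸ J] A₀).symm)
  haveI := FinMult.flat_of_isMultType hA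
  obtain ⟨il, hil⟩ := HopfLift.exists_integral_of_isMultType hA
  -- the comparison
  let E : (R ⧸ J) ⊗[R] A ≃ₐ[R ⧸ J] A₀ := (e : (R ⧸ J) ⊗[R] A ≃ₐ[R ⧸ J] A₀)
  haveI : IsMonHom (pt E.toAlgHom) := DiagRep.isMonHom_pt E.toAlgHom
    (BialgHom.counitAlgHom_comp e.toBialgHom) (BialgHom.map_comp_comulAlgHom e.toBialgHom)
  haveI : IsIso (pt E.toAlgHom) := ⟨pt E.symm.toAlgHom,
    by rw [← pt_comp, show E.toAlgHom.comp E.symm.toAlgHom = AlgHom.id (R ⧸ J) A₀ from
      AlgHom.ext E.apply_symm_apply, pt_id],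
    by rw [← pt_comp, show E.symm.toAlgHom.comp E.toAlgHom = AlgHom.id (R ⧸ J) _ from
      AlgHom.ext E.symm_apply_apply, pt_id]⟩
  haveI : IsMonHom (asIso (pt E.toAlgHom)).hom := inferInstanceAs (IsMonHom (pt E.toAlgHom))
  let b : Red.bc (jJ J) (sp R A) ⟶ sp (R ⧸ J) ((R ⧸ J) ⊗[R] A) := bcHom R (R ⧸ J) A
  haveI : IsIso b := inferInstanceAs (IsIso (bcHom _ _ _))
  haveI : IsMonHom (asIso b).hom := DiagRep.isMonHom_bcHom R (R ⧸ J) A
  let φ : Red.bc (jJ J) (sp R A) ≅ H₀ := asIso b ≪≫ (asIso (pt E.toAlgHom)).symm ≪≫ v₀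
  haveI : IsMonHom φ.hom := by
    show IsMonHom ((asIso b).hom ≫ (asIso (pt E.toAlgHom)).inv ≫ v₀.hom)
    infer_instance
  obtain ⟨f, hf, hfψ⟩ := exists_hom_lift hil hJ (φ.hom ≫ j₀)
  haveI := hf
  refine ⟨sp R A, inferInstance, f, hf, ?_, ?_, isMultTypeFT_of_isMultType (𝟙 _) hA, φ, inferInstance, hfψ.symm⟩
  · refine isImmersion_of_nilpotent hJ f ?_
    have h : (inc (jJ J) (sp R A)).left ≫ f.left = (φ.hom ≫ j₀).left ≫ pullback.fst G.hom (jJ J) := by
      rw [← hfψ, PowEtCentralLib.inc_left, ActBC.pullback_map_left_fst]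
    rw [h]
    haveI : IsIso φ.hom.left := (Over.forget _).map_isIso φ.hom
    rw [Over.comp_left, Category.assoc]
    infer_instance
  · show Flat (Spec.map (CommRingCat.ofHom (algebraMap R A)))
    rw [HasRingHomProperty.Spec_iff (P := @Flat)]
    exact RingHom.flat_algebraMap_iff.2 inferInstance

end Groth.Agent.HomCorr
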