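import Groth.Agent.HomCorrLib.Lift
import Groth.Agent.PowEtCentralLib.Transport
import Mathlib.RingTheory.TensorProduct.Quotient

/-!
Homomorphisms given over the closed subscheme of a nilpotent ideal lift.
-/

set_option autoImplicit false
set_option backward.isDefEq.respectTransparency false

noncomputable section

universe u

open CategoryTheory CategoryTheory.Limits MonoidalCategory CartesianMonoidalCategory AlgebraicGeometry CoactBr
open scoped MonObj TensorProduct

namespace Groth.Agent.HomCorr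

attribute [local instance] CoactBr.braidedAlgSpecOf

open PowEtCentralLib (res inc resMap tau tau_mul tau_comp tau_eq_iff resMap_inc inc_left)

variable {R : Type u} [CommRing R]

/-- The closed subscheme of an ideal. -/
abbrev jJ (J : Ideal R) : Spec (CommRingCat.of (R ⧸ J)) ⟶ Spec (CommRingCat.of R) :=
  Spec.map (CommRingCat.ofHom (Ideal.Quotient.mk J))

instance (J : Ideal R) : IsClosedImmersion (jJ J) :=
  IsClosedImmersion.spec_of_surjective _ Ideal.Quotient.mk_surjective

theorem isIso_inc {J : Ideal R} {Z : Over (Spec (CommRingCat.of R))} (q : Z ⟶ Over.mk (jJ J)) :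
    IsIso (inc (jJ J) Z) := by
  haveI : IsIso ((Over.forget _).map (inc (jJ J) Z)) := by
    show IsIso (inc (jJ J) Z).left
    rw [inc_left]
    haveI : IsSplitEpi (pullback.fst Z.hom (jJ J)) :=
      IsSplitEpi.mk' ⟨pullback.lift (𝟙 _) q.left (by rw [Category.id_comp]; exact (Over.w q).symm),
        pullback.lift_fst _ _ _⟩
    exact isIso_of_mono_of_isSplitEpi _
  exact isIso_of_reflects_iso _ (Over.forget _)

variable {A : Type u} [CommRing A] [HopfAlgebra R A] {G : Over (Spec (CommRingCat.of R))} [GrpObj G]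

set_option maxHeartbeats 1000000 in
theorem exists_hom_lift [Smooth G.hom] {il : A →ₗ[R] R} (hil : HopfLift.IsIntegral R il) {J : Ideal R}
    (hJ : IsNilpotent J) (ψ : Red.bc (jJ J) (sp R A) ⟶ Red.bc (jJ J) G) [IsMonHom ψ] :
    ∃ f : sp R A ⟶ G, IsMonHom f ∧ (Over.pullback (jJ J)).map f = ψ := by
  have hk : ∀ (X : Type u) [CommRing X] [Algebra R X], J ≤ RingHom.ker (algebraMap R (Qt J X)) := fun X _ _ r hr => by
    rw [RingHom.mem_ker, IsScalarTower.algebraMap_apply R X (Qt J X), Ideal.Quotient.algebraMap_eq,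
      Ideal.Quotient.eq_zero_iff_mem]
    exact Ideal.mem_map_of_mem _ hr
  haveI hiso : ∀ (X : Type u) [CommRing X] [Algebra R X], IsIso (inc (jJ J) (sp R (Qt J X))) := fun X _ _ =>
    isIso_inc (SqLift.toS₀ _ (hk X))
  let f₀ : sp R (Qt J A) ⟶ G := inv (inc (jJ J) (sp R (Qt J A))) ≫ tau (jJ J) ψ (pt (qk J A))
  have hnat : ∀ φ : A →ₐ[R] A ⊗[R] A, pt (qm J φ) ≫ f₀ =
      inv (inc (jJ J) (sp R (Qt J (A ⊗[R] A)))) ≫ tau (jJ J) ψ (pt (qk J (A ⊗[R] A)) ≫ pt φ) := by
    intro φ
    rw [← pt_comp, ← qm_comp_qk, pt_comp, tau_comp, ← Category.assoc, ← Category.assoc]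
    congr 1
    rw [← cancel_mono (inc (jJ J) (sp R (Qt J A))), Category.assoc, Category.assoc, IsIso.inv_hom_id,
      Category.comp_id, resMap_inc, IsIso.inv_hom_id_assoc]
  obtain ⟨f, hf, hf0⟩ := exists_lift hil hJ f₀ (by
    rw [hnat, hnat, hnat, ← MonObj.comp_mul, ← tau_mul, ← MonObj.comp_mul, DiagRep.pt_mul_conv,
      ← DiagRep.toConv_comul])
  refine ⟨f, hf, ?_⟩
  haveI := hf
  -- the restriction factors through the quotient
  let K := R ⧸ J
  let r : Qt J A →ₐ[R] K ⊗[R] A :=
    Ideal.Quotient.liftₐ _ (Algebra.TensorProduct.includeRight : A →ₐ[R] K ⊗[R] A) fun a ha => by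
      have h0 : (Algebra.TensorProduct.includeRight : A →ₐ[R] K ⊗[R] A) a ∈ J.map (algebraMap R (K ⊗[R] A)) :=
        mem_map_lin (Algebra.TensorProduct.includeRight : A →ₐ[R] K ⊗[R] A).toLinearMap J ha
      rw [IsScalarTower.algebraMap_eq R K (K ⊗[R] A), ← Ideal.map_map, Ideal.Quotient.algebraMap_eq,
        Ideal.map_quotient_self, Ideal.map_bot, Submodule.mem_bot] at h0
      exact h0
  have hb := DiagRep.bcHom_includeRight R K A
  let g : res (jJ J) (sp R A) ⟶ sp R (Qt J A) :=
    Over.homMk ((DiagRep.bcHom R K A).left ≫ Spec.map (CommRingCat.ofHom r.toRingHom)) (by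
      have h1 : Spec.map (CommRingCat.ofHom r.toRingHom) ≫ (sp R (Qt J A)).hom =
          Spec.map (CommRingCat.ofHom (Algebra.TensorProduct.includeRight : A →ₐ[R] K ⊗[R] A).toRingHom) ≫
            (sp R A).hom := by
        show Spec.map _ ≫ Spec.map _ = Spec.map _ ≫ Spec.map _
        rw [← Spec.map_comp, ← Spec.map_comp, ← CommRingCat.ofHom_comp, ← CommRingCat.ofHom_comp]
        refine congrArg (fun φ => Spec.map (CommRingCat.ofHom φ)) (RingHom.ext fun x => ?_)
        exact (r.commutes x).trans ((Algebra.TensorProduct.includeRight : A →ₐ[R] K ⊗[R] A).commutes x).symm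
      show ((DiagRep.bcHom R K A).left ≫ Spec.map _) ≫ (sp R (Qt J A)).hom =
        pullback.snd (sp R A).hom (jJ J) ≫ jJ J
      rw [Category.assoc, h1, ← Category.assoc]
      erw [hb]
      exact pullback.condition)
  have hg : g ≫ pt (qk J A) = inc (jJ J) (sp R A) := by
    refine Over.OverMorphism.ext ?_
    rw [inc_left]
    show ((DiagRep.bcHom R K A).left ≫ Spec.map (CommRingCat.ofHom r.toRingHom)) ≫
      Spec.map (CommRingCat.ofHom (qk J A).toRingHom) = _
    rw [Category.assoc, ← Spec.map_comp, ← CommRingCat.ofHom_comp]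
    exact hb
  have hid : g ≫ inv (inc (jJ J) (sp R (Qt J A))) ≫ resMap (jJ J) (pt (qk J A)) = 𝟙 _ := by
    haveI : Mono (inc (jJ J) (sp R A)) := Over.mono_of_mono_left _
    rw [← cancel_mono (inc (jJ J) (sp R A)), Category.assoc, Category.assoc, resMap_inc, IsIso.inv_hom_id_assoc, hg,
      Category.id_comp]
  have h : inc (jJ J) (sp R A) ≫ f = tau (jJ J) ψ (𝟙 (sp R A)) := by
    rw [← hg, Category.assoc, hf0]
    show g ≫ inv _ ≫ tau (jJ J) ψ (pt (qk J A)) = _
    rw [← Category.comp_id (pt (qk J A)), tau_comp, ← Category.assoc (inv _), ← Category.assoc g, hid,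
      Category.id_comp]
  rw [(tau_eq_iff (jJ J) ψ (𝟙 _) f).1 h, CategoryTheory.Functor.map_id, Category.id_comp]

end Groth.Agent.HomCorr
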