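import Groth.Agent.HomCorrLib.Bridge
import Groth.Agent.FinMultLib.TorsionHopf
import Groth.Agent.FinMultLib.Isotriv

/-!
The torsion subgroup of a group of multiplicative type through its points.
-/

set_option autoImplicit false
set_option backward.isDefEq.respectTransparency false

noncomputable section

universe u

open CategoryTheory CategoryTheory.Limits MonoidalCategory CartesianMonoidalCategory AlgebraicGeometry CoactBr WithConv
open scoped MonObj TensorProduct

namespace Groth.Agent.HomCorr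

attribute [local instance] CoactBr.braidedAlgSpecOf

variable {R : Type u} [CommRing R]

/-- Morphisms to an affine scheme through the global functions. -/
theorem exists_gamma (X : Over (Spec (CommRingCat.of R))) :
    ∃ (C : Type u) (_ : CommRing C) (_ : Algebra R C) (τ : X ⟶ sp R C),
      ∀ (A : Type u) [CommRing A] [Algebra R A], (∀ h : X ⟶ sp R A, ∃ g : A →ₐ[R] C, h = τ ≫ pt g) ∧
        ∀ g g' : A →ₐ[R] C, τ ≫ pt g = τ ≫ pt g' → g = g' := by
  have hrepr : ∀ (A : CommRingCat.{u}) (f : X.left ⟶ Spec A),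
      f = X.left.toSpecΓ ≫ Spec.map ((Scheme.ΓSpecIso A).inv ≫ f.appTop) := fun A f => by
    rw [Spec.map_comp, ← Category.assoc, ← Scheme.toSpecΓ_naturality, Category.assoc]
    rw [show (Spec A).toSpecΓ = Spec.map (Scheme.ΓSpecIso A).hom from (SpecMap_ΓSpecIso_hom A).symm, ← Spec.map_comp,
      Iso.inv_hom_id, Spec.map_id, Category.comp_id]
  let ρ : CommRingCat.of R ⟶ Γ(X.left, ⊤) := (Scheme.ΓSpecIso (CommRingCat.of R)).inv ≫ X.hom.appTop
  letI : Algebra R Γ(X.left, ⊤) := ρ.hom.toAlgebra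
  let τ : X ⟶ sp R Γ(X.left, ⊤) := Over.homMk X.left.toSpecΓ (by
    show X.left.toSpecΓ ≫ Spec.map (CommRingCat.ofHom ρ.hom) = X.hom
    rw [CommRingCat.ofHom_hom]
    exact (hrepr _ X.hom).symm)
  refine ⟨Γ(X.left, ⊤), inferInstance, inferInstance, τ, fun A _ _ => ⟨fun h => ?_, fun g g' hgg' => ?_⟩⟩
  · let φ : CommRingCat.of A ⟶ Γ(X.left, ⊤) := (Scheme.ΓSpecIso (CommRingCat.of A)).inv ≫ h.left.appTop
    have hφ : CommRingCat.ofHom (algebraMap R A) ≫ φ = ρ := by
      have e := congrArg Scheme.Hom.appTop (Over.w h)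
      rw [Scheme.Hom.comp_appTop] at e
      simp only [ρ, φ]
      rw [← e, ← Category.assoc, ← Category.assoc]
      congr 1
      exact (Scheme.ΓSpecIso_inv_naturality _)
    refine ⟨⟨φ.hom, fun r => DFunLike.congr_fun (congrArg CommRingCat.Hom.hom hφ) r⟩, Over.OverMorphism.ext ?_⟩
    show h.left = X.left.toSpecΓ ≫ Spec.map (CommRingCat.ofHom φ.hom)
    rw [CommRingCat.ofHom_hom]
    exact hrepr _ h.left
  · have e := congrArg (fun f => Scheme.Hom.appTop f) (congrArg CommaMorphism.left hgg')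
    simp only [Over.comp_left, pt_left, τ, Over.homMk_left, Scheme.Hom.comp_appTop, Scheme.toSpecΓ_appTop,
      Scheme.ΓSpecIso_naturality] at e
    erw [Scheme.toSpecΓ_appTop, Scheme.ΓSpecIso_naturality, Scheme.ΓSpecIso_naturality] at e
    have e' := congrArg CommRingCat.Hom.hom ((cancel_epi _).1 e)
    exact AlgHom.ext fun a => DFunLike.congr_fun e' a

variable {A : Type u} [CommRing A] [HopfAlgebra R A]

theorem pt_pow {C : Type u} [CommRing C] [Algebra R C] (g : A →ₐ[R] C) (n : ℕ) :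
    pt g ^ n = pt (g.comp (SGA3b.powConv R A n)) := by
  induction n with
  | zero =>
    rw [pow_zero, ← DiagRep.pt_one]
    congr 1
    refine AlgHom.ext fun a => ?_
    show algebraMap R C (Coalgebra.counit a) = g (SGA3b.powConv R A 0 a)
    rw [SGA3b.powConv, pow_zero, AlgHom.convOne_def]
    exact (g.commutes _).symm
  | succ n ih =>
    rw [pow_succ, ih, DiagRep.pt_mul_conv]
    congr 1
    rw [SGA3b.powConv, SGA3b.powConv, pow_succ, AlgHom.comp_convMul_distrib]
    rfl

theorem tau_comp_pow {B : Type u} [CommRing B] [HopfAlgebra R B] {X : Over (Spec (CommRingCat.of R))} {C : Type u}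
    [CommRing C] [Algebra R C] (τ : X ⟶ sp R C) {H : Over (Spec (CommRingCat.of R))} [GrpObj H]
    (v : sp R B ⟶ H) [IsMonHom v] (x : sp R C ⟶ sp R B) (k : ℕ) : (τ ≫ x ≫ v) ^ k = τ ≫ (x ^ k) ≫ v := by
  induction k with
  | zero => rw [pow_zero, pow_zero, MonObj.one_comp, MonObj.comp_one]
  | succ k ih => rw [pow_succ, pow_succ, MonObj.mul_comp, MonObj.comp_mul, ← ih]

/-- The torsion subgroup. -/
theorem exists_torsion_subgroup {H : Over (Spec (CommRingCat.of R))} [GrpObj H] (v : sp R A ⟶ H) [IsIso v] [IsMonHom v]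
    [Algebra.FiniteType R A] (hA : SGA3b.IsMultType R A) (n : ℕ) :
    ∃ (T : Over (Spec (CommRingCat.of R))) (_ : GrpObj T) (t : T ⟶ H), IsMonHom t ∧ IsClosedImmersion t.left ∧
      SGA3x.IsMultTypeFT T ∧ ∀ (X : Over (Spec (CommRingCat.of R))) (h : X ⟶ H), (∃ y, y ≫ t = h) ↔ h ^ n = 1 := by
  rcases Nat.eq_zero_or_pos n with hn | hn
  · subst hn
    refine ⟨H, inferInstance, 𝟙 H, inferInstance, inferInstanceAs (IsClosedImmersion (𝟙 H.left)),
      isMultTypeFT_of_isMultType v hA, fun X h => ⟨fun _ => pow_zero h, fun _ => ⟨h, Category.comp_id h⟩⟩⟩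
  haveI := FinMult.isCocomm_of_isMultType hA
  haveI hJ : (SGA3b.torsionIdeal R A n).IsHopfIdeal R := FinMult.isHopfIdeal_torsionIdeal n
  let J := SGA3b.torsionIdeal R A n
  obtain ⟨hm, -⟩ := DiagHopf.isMultType_torsion hA hn J rfl
  haveI : Algebra.FiniteType R (A ⧸ J) :=
    Algebra.FiniteType.of_surjective (Ideal.Quotient.mkₐ R J) Ideal.Quotient.mk_surjective
  let q : A →ₐc[R] A ⧸ J := Bialgebra.Quotient.mkBialgHom (R := R) J
  haveI : IsMonHom (pt (q : A →ₐ[R] A ⧸ J)) :=
    DiagRep.isMonHom_pt _ (BialgHom.counitAlgHom_comp q) (BialgHom.map_comp_comulAlgHom q)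
  let t := pt (q : A →ₐ[R] A ⧸ J) ≫ v
  haveI : IsClosedImmersion t.left := by
    haveI : IsIso v.left := (Over.forget _).map_isIso v
    haveI : IsClosedImmersion (pt (q : A →ₐ[R] A ⧸ J)).left := by
      rw [pt_left]
      exact IsClosedImmersion.spec_of_surjective _ Ideal.Quotient.mk_surjective
    rw [Over.comp_left]
    infer_instance
  refine ⟨sp R (A ⧸ J), inferInstance, t, inferInstance, inferInstance, isMultTypeFT_of_isMultType (𝟙 _) hm,
    fun X h => ?_⟩
  haveI : IsMonHom (asIso v).hom := inferInstanceAs (IsMonHom v)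
  haveI : IsMonHom (asIso v).inv := inferInstance
  obtain ⟨C, _, _, τ, hτ⟩ := exists_gamma X
  obtain ⟨g, hg⟩ := (hτ A).1 (h ≫ (asIso v).inv)
  have hh : h = τ ≫ pt g ≫ v := by rw [← Category.assoc, ← hg, Category.assoc, asIso_inv, IsIso.inv_hom_id, Category.comp_id]
  have h1 : (1 : X ⟶ H) = τ ≫ pt ((Algebra.ofId R C).comp (Bialgebra.counitAlgHom R A)) ≫ v := by
    rw [DiagRep.pt_one, MonObj.one_comp, MonObj.comp_one]
  have h2 : h ^ n = τ ≫ pt (g.comp (SGA3b.powConv R A n)) ≫ v := by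
    rw [← pt_pow, hh]
    exact tau_comp_pow τ v (pt g) n
  have key : h ^ n = 1 ↔ J ≤ RingHom.ker g.toRingHom := by
    rw [h1, h2, ← Category.assoc, ← Category.assoc, cancel_mono]
    constructor
    · intro e
      have e' := (hτ A).2 _ _ e
      refine Ideal.map_le_iff_le_comap.2 fun a ha => ?_
      show g (SGA3b.powConv R A n a) = 0
      rw [show g (SGA3b.powConv R A n a) = _ from DFunLike.congr_fun e' a]
      show algebraMap R C (Bialgebra.counitAlgHom R A a) = 0
      rw [show Bialgebra.counitAlgHom R A a = 0 from ha, map_zero]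
    · intro hle
      refine congrArg (fun φ => τ ≫ pt φ) (AlgHom.ext fun a => ?_)
      have hm : SGA3b.powConv R A n (a - algebraMap R A (Coalgebra.counit a)) ∈ J :=
        Ideal.mem_map_of_mem _ (show Bialgebra.counitAlgHom R A _ = 0 by
          rw [map_sub, AlgHom.commutes, Bialgebra.counitAlgHom_apply]; exact sub_self _)
      have h3 : g (SGA3b.powConv R A n (a - algebraMap R A (Coalgebra.counit a))) = 0 := hle hm
      rw [map_sub, map_sub, sub_eq_zero, AlgHom.commutes, AlgHom.commutes] at h3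
      exact h3
  rw [key]
  constructor
  · rintro ⟨y, hy⟩
    obtain ⟨g', hg'⟩ := (hτ (A ⧸ J)).1 y
    have e : g = g'.comp (q : A →ₐ[R] A ⧸ J) := (hτ A).2 _ _ (by
      rw [← cancel_mono v, Category.assoc, ← hh, ← hy, hg', pt_comp]
      simp only [t, Category.assoc])
    intro a ha
    rw [RingHom.mem_ker, e]
    show g' (Ideal.Quotient.mk J a) = 0
    rw [Ideal.Quotient.eq_zero_iff_mem.2 ha, map_zero]
  · intro hle
    refine ⟨τ ≫ pt (Ideal.Quotient.liftₐ J g hle), ?_⟩
    rw [hh]
    simp only [t, Category.assoc]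
    rw [← Category.assoc (pt _) (pt _) v, ← pt_comp]
    rfl

end Groth.Agent.HomCorr
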