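import Groth.Agent.HomCorrLib.Hat

/-!
Correcting a point which is a homomorphism modulo a square-zero ideal.
-/

set_option autoImplicit false
set_option backward.isDefEq.respectTransparency false

noncomputable section

universe u

open CategoryTheory CategoryTheory.Limits MonoidalCategory CartesianMonoidalCategory AlgebraicGeometry CoactBr
open scoped MonObj TensorProduct

namespace Groth.Agent.HomCorr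

attribute [local instance] CoactBr.braidedAlgSpecOf

variable {R : Type u} [CommRing R] {G : Over (Spec (CommRingCat.of R))} [GrpObj G]

theorem pt_assoc {A B C : Type u} [CommRing A] [Algebra R A] [CommRing B] [Algebra R B] [CommRing C] [Algebra R C]
    {X : Over (Spec (CommRingCat.of R))} (φ : A →ₐ[R] B) (ψ : B →ₐ[R] C) (x : sp R A ⟶ X) :
    pt ψ ≫ pt φ ≫ x = pt (ψ.comp φ) ≫ x := by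
  rw [← Category.assoc, ← pt_comp]

variable {T₁ T₂ T₃ : Type u} [CommRing T₁] [Algebra R T₁] [CommRing T₂] [Algebra R T₂] [CommRing T₃] [Algebra R T₃]

/-- The core correction lemma. -/
theorem exists_correction {I₁ : Ideal T₁} {I₂ : Ideal T₂} {I₃ : Ideal T₃} (i₁ i₂ Δ : T₁ →ₐ[R] T₂)
    (j₁₂ j₂₃ d₁₂ d₂₃ : T₂ →ₐ[R] T₃) (E : T₂ →ₗ[R] T₁) (E₃ : T₃ →ₗ[R] T₂)
    (hE : IsTr i₁ I₂ (AlgHom.id R T₁) I₁ E) (hE₃ : IsTr j₁₂ I₃ (AlgHom.id R T₂) I₂ E₃)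
    (hi₁ : ∀ x ∈ I₁, i₁ x ∈ I₂) (hi₂ : ∀ x ∈ I₁, i₂ x ∈ I₂) (hΔ : ∀ x ∈ I₁, Δ x ∈ I₂)
    (hj₁₂ : ∀ x ∈ I₂, j₁₂ x ∈ I₃) (hj₂₃ : ∀ x ∈ I₂, j₂₃ x ∈ I₃) (hd₁₂ : ∀ x ∈ I₂, d₁₂ x ∈ I₃)
    (hd₂₃ : ∀ x ∈ I₂, d₂₃ x ∈ I₃)
    (h₁ : d₁₂.comp i₁ = j₁₂.comp Δ) (h₂ : d₁₂.comp i₂ = j₂₃.comp i₂) (h₃ : d₂₃.comp i₁ = j₁₂.comp i₁)
    (h₄ : d₂₃.comp i₂ = j₂₃.comp Δ) (h₅ : j₂₃.comp i₁ = j₁₂.comp i₂) (h₆ : d₁₂.comp Δ = d₂₃.comp Δ)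
    (hI₁₂ : ∀ v, Δ (E v) = E₃ (d₁₂ v)) (hIj : ∀ v, i₂ (E v) = E₃ (j₂₃ v)) (hI₂₃ : ∀ v, i₁ (E v) = E₃ (d₂₃ v))
    (f : sp R T₁ ⟶ G)
    (hf : pt (Ideal.Quotient.mkₐ R I₂) ≫ ((pt i₁ ≫ f) * (pt i₂ ≫ f) * (pt Δ ≫ f)⁻¹) = 1) :
    ∃ f' : sp R T₁ ⟶ G, pt (Ideal.Quotient.mkₐ R I₁) ≫ f' = pt (Ideal.Quotient.mkₐ R I₁) ≫ f ∧
      (pt i₁ ≫ f') * (pt i₂ ≫ f') = pt Δ ≫ f' := by
  obtain ⟨c, hc⟩ := exists_isPush hE _ hf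
  have hc1 := hc.congr_one
  let F₁ := pt i₁ ≫ f
  let F₂ := pt i₂ ≫ f
  let FΔ := pt Δ ≫ f
  let c₁ := pt i₁ ≫ c
  let c₂ := pt i₂ ≫ c
  let cΔ := pt Δ ≫ c
  let d := F₁ * F₂ * FΔ⁻¹
  let a := pt j₁₂ ≫ F₁
  have e₁ : IsPush hE₃ (pt j₁₂ ≫ d) d := by
    have := isPush_const hE₃ hE.sq hj₁₂ d hf
    rwa [pt_id', Category.id_comp] at this
  have e₂ : IsPush hE₃ (pt d₁₂ ≫ d) cΔ := hc.natural hE₃ Δ d₁₂ Δ hd₁₂ h₁ hI₁₂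
  have e₃ : IsPush hE₃ (pt d₂₃ ≫ d) c₁ := hc.natural hE₃ i₁ d₂₃ i₁ hd₂₃ h₃ hI₂₃
  have e₄ : IsPush hE₃ (pt j₂₃ ≫ d) c₂ := hc.natural hE₃ i₂ j₂₃ i₂ hj₂₃ h₅ hIj
  have e₅ : IsPush hE₃ (a * (pt j₂₃ ≫ d) * a⁻¹ * (pt d₂₃ ≫ d)) (F₁ * c₂ * F₁⁻¹ * c₁) := by
    have h := (e₄.conj F₁).mul e₃
    rwa [pt_id', Category.id_comp] at h
  have hid : a * (pt j₂₃ ≫ d) * a⁻¹ * (pt d₂₃ ≫ d) = (pt j₁₂ ≫ d) * (pt d₁₂ ≫ d) := by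
    simp only [a, d, F₁, F₂, FΔ, MonObj.comp_mul, GrpObj.comp_inv, pt_assoc, h₁, h₂, h₃, h₄, h₅, h₆]
    group
  have key : F₁ * c₂ * F₁⁻¹ * c₁ = d * cΔ := (hid ▸ e₅).unique (e₁.mul e₂)
  refine ⟨c⁻¹ * f, ?_, ?_⟩
  · rw [MonObj.comp_mul, GrpObj.comp_inv, hc1, inv_one, one_mul]
  · simp only [MonObj.comp_mul, GrpObj.comp_inv]
    show c₁⁻¹ * F₁ * (c₂⁻¹ * F₂) = cΔ⁻¹ * FΔ
    calc c₁⁻¹ * F₁ * (c₂⁻¹ * F₂) = (F₁ * c₂ * F₁⁻¹ * c₁)⁻¹ * (d * FΔ) := by simp only [d]; group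
      _ = cΔ⁻¹ * FΔ := by rw [key]; group

end Groth.Agent.HomCorr
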