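import Groth.Agent.DiagHopfLib.Family
import Groth.Agent.DiagHopfLib.Groups
import Groth.Agent.DiagHopfLib.Nilp
import Groth.Agent.DiagHopfLib.Torsion
import Mathlib.Algebra.Group.Pi.Units
import Mathlib.RingTheory.RingHom.Flat
import Mathlib.RingTheory.Flat.Localization
import Mathlib.RingTheory.Spectrum.Prime.ConstructibleSet

set_option autoImplicit false

/-!
A finite family of splittings with faithfully flat product gives multiplicative type.
-/

noncomputable section

universe u v w

open scoped TensorProduct
open Groth.Agent.TorusField Groth.Agent.DiagHopf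

namespace Groth.Agent.HomCorr

variable {R : Type u} [CommRing R] {A : Type u} [CommRing A] [HopfAlgebra R A]

theorem exists_reindex {S : Type u} [CommRing S] [Algebra R S] {M : Type v} [AddCommGroup M] {M' : Type w}
    [AddCommGroup M'] (E : Split R A M S) (φ : M ≃+ M') : Nonempty (Split R A M' S) :=
  ⟨⟨E.e.reindex φ.toEquiv, by simp [E.e_zero], fun a b => by simp [E.e_add], fun a => by simpa using E.gl _⟩⟩

theorem nonempty_addEquiv_of_split_domain {S : Type u} [CommRing S] [Algebra R S] [IsDomain S] {M : Type v}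
    [AddCommGroup M] {M' : Type w} [AddCommGroup M'] (E : Split R A M S) (E' : Split R A M' S) :
    Nonempty (M ≃+ M') := by
  choose g hg using fun m => E'.exists_eq (E.gl m)
  choose g' hg' using fun m => E.exists_eq (E'.gl m)
  refine ⟨{ toFun := g, invFun := g', left_inv := fun m => E.e.injective (by rw [← hg', ← hg]),
            right_inv := fun m => E'.e.injective (by rw [← hg, ← hg']), map_add' := fun a b => E'.e.injective ?_ }⟩
  rw [← hg, E.e_add, hg, hg, E'.e_add]

theorem nonempty_addEquiv_of_common {S S' : Type u} [CommRing S] [Algebra R S] [CommRing S'] [Algebra R S']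
    {M : Type v} [AddCommGroup M] {M' : Type w} [AddCommGroup M'] (E : Split R A M S) (E' : Split R A M' S')
    (P : PrimeSpectrum S) (P' : PrimeSpectrum S')
    (h : PrimeSpectrum.comap (algebraMap R S) P = PrimeSpectrum.comap (algebraMap R S') P') :
    Nonempty (M ≃+ M') := by
  let p := PrimeSpectrum.comap (algebraMap R S') P'
  let k := p.asIdeal.ResidueField
  letI a1 : Algebra k P.asIdeal.ResidueField :=
    (Ideal.ResidueField.map p.asIdeal P.asIdeal (algebraMap R S) (congrArg PrimeSpectrum.asIdeal h).symm).toAlgebra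
  letI a2 : Algebra k P'.asIdeal.ResidueField :=
    (Ideal.ResidueField.map p.asIdeal P'.asIdeal (algebraMap R S') rfl).toAlgebra
  haveI : IsScalarTower R k P.asIdeal.ResidueField := IsScalarTower.of_algebraMap_eq fun r => by
    rw [RingHom.algebraMap_toAlgebra, Ideal.ResidueField.map_algebraMap, ← IsScalarTower.algebraMap_apply]
  haveI : IsScalarTower R k P'.asIdeal.ResidueField := IsScalarTower.of_algebraMap_eq fun r => by
    rw [RingHom.algebraMap_toAlgebra, Ideal.ResidueField.map_algebraMap, ← IsScalarTower.algebraMap_apply]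
  let U := P.asIdeal.ResidueField ⊗[k] P'.asIdeal.ResidueField
  obtain ⟨m, hm⟩ := Ideal.exists_maximal U
  let Ω := U ⧸ m
  haveI : IsDomain Ω := Ideal.Quotient.isDomain m
  let f : S →ₐ[R] Ω := ((Ideal.Quotient.mkₐ R m).comp
    ((Algebra.TensorProduct.includeLeft : P.asIdeal.ResidueField →ₐ[k] U).restrictScalars R)).comp
      (IsScalarTower.toAlgHom R S P.asIdeal.ResidueField)
  let f' : S' →ₐ[R] Ω := ((Ideal.Quotient.mkₐ R m).comp
    ((Algebra.TensorProduct.includeRight : P'.asIdeal.ResidueField →ₐ[k] U).restrictScalars R)).comp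
      (IsScalarTower.toAlgHom R S' P'.asIdeal.ResidueField)
  obtain ⟨F, -⟩ := exists_split_push E f
  obtain ⟨F', -⟩ := exists_split_push E' f'
  exact nonempty_addEquiv_of_split_domain F F'

/-- A finite family of splittings with faithfully flat product gives multiplicative type. -/
theorem isMultType_of_family {ι : Type u} [Fintype ι] {S : ι → Type u} [∀ i, CommRing (S i)] [∀ i, Algebra R (S i)]
    {N : ι → Type} [∀ i, AddCommGroup (N i)] [∀ i, Module.Flat R (S i)]
    (hcov : ∀ p : PrimeSpectrum R, ∃ i, p ∈ Set.range (PrimeSpectrum.comap (algebraMap R (S i))))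
    (E : ∀ i, Split R A (ULift.{u} (N i)) (S i)) : SGA3b.IsMultType R A := by
  classical
  let rg : ι → Set (PrimeSpectrum R) := fun i => Set.range (PrimeSpectrum.comap (algebraMap R (S i)))
  let cl : ι → Finset ι := fun i => Finset.univ.filter fun j => Nonempty (ULift.{u} (N j) ≃+ ULift.{u} (N i))
  let V : ι → Set (PrimeSpectrum R) := fun i => ⋃ j ∈ cl i, rg j
  have hgen : ∀ j, StableUnderGeneralization (rg j) := fun j =>
    (RingHom.Flat.generalizingMap_comap (RingHom.flat_algebraMap_iff.2 inferInstance)).stableUnderGeneralization_range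
  have hcompl : ∀ i, (V i)ᶜ = ⋃ j ∈ Finset.univ \ cl i, rg j := by
    intro i
    ext p
    simp only [V, Set.mem_compl_iff, Set.mem_iUnion, Finset.mem_sdiff, Finset.mem_univ, true_and, exists_prop, not_exists,
      not_and]
    constructor
    · intro h
      obtain ⟨j, hj⟩ := hcov p
      exact ⟨j, fun hjc => h j hjc hj, hj⟩
    · rintro ⟨j, hj, P, hP⟩ k hk ⟨Q, hQ⟩
      obtain ⟨φ⟩ := nonempty_addEquiv_of_common (E k) (E j) Q P (hQ.trans hP.symm)
      obtain ⟨ψ⟩ := (Finset.mem_filter.1 hk).2
      exact hj (Finset.mem_filter.2 ⟨Finset.mem_univ _, ⟨φ.symm.trans ψ⟩⟩)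
  -- each class is clopen
  have hclosed : ∀ (t : Finset ι), StableUnderSpecialization (⋃ j ∈ t, rg j) → IsClosed (⋃ j ∈ t, rg j) := by
    intro t ht
    haveI : ∀ j : (t : Set ι), Module.Flat R (S j.1) := fun _ => inferInstance
    have e : (⋃ j ∈ t, rg j) = Set.range (PrimeSpectrum.comap (algebraMap R (Π j : (t : Set ι), S j.1))) := by
      ext p
      simp only [Set.mem_iUnion, exists_prop]
      constructor
      · rintro ⟨j, hj, P, rfl⟩
        exact ⟨PrimeSpectrum.comap (Pi.evalRingHom (fun j : (t : Set ι) => S j.1) ⟨j, hj⟩) P, rfl⟩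
      · rintro ⟨Q, rfl⟩
        obtain ⟨⟨j, P⟩, rfl⟩ := (PrimeSpectrum.sigmaToPi_bijective (fun j : (t : Set ι) => S j.1)).2 Q
        exact ⟨j.1, j.2, P, rfl⟩
    rw [e] at ht ⊢
    exact PrimeSpectrum.isClosed_range_of_stableUnderSpecialization _ ht
  have hclopen : ∀ i, IsClopen (V i) := by
    intro i
    have h1 : ∀ t : Finset ι, StableUnderGeneralization (⋃ j ∈ t, rg j) := fun t x y hxy hx => by
      simp only [Set.mem_iUnion, exists_prop] at hx ⊢
      obtain ⟨j, hj, hx⟩ := hx
      exact ⟨j, hj, hgen j hxy hx⟩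
    have ha : StableUnderSpecialization (V i) := by
      have := (h1 (Finset.univ \ cl i))
      rw [← hcompl, stableUnderGeneralization_compl_iff] at this
      exact this
    have hb : StableUnderSpecialization (V i)ᶜ := stableUnderSpecialization_compl_iff.2 (h1 _)
    rw [hcompl] at hb
    refine ⟨hclosed _ ha, ?_⟩
    rw [← isClosed_compl_iff, hcompl]
    exact hclosed _ hb
  choose e he heV using fun i => PrimeSpectrum.exists_idempotent_basicOpen_eq_of_isClopen (hclopen i)
  refine ⟨Set.range e, ?_, ?_⟩
  · by_contra hne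
    obtain ⟨m, hm, hle⟩ := Ideal.exists_le_maximal _ hne
    obtain ⟨i, hi⟩ := hcov ⟨m, hm.isPrime⟩
    have hp : (⟨m, hm.isPrime⟩ : PrimeSpectrum R) ∈ V i :=
      Set.mem_biUnion (Finset.mem_filter.2 ⟨Finset.mem_univ _, ⟨AddEquiv.refl _⟩⟩) hi
    rw [heV i] at hp
    exact hp (hle (Ideal.subset_span ⟨i, rfl⟩))
  · rintro _ ⟨i, rfl⟩
    let f := e i
    let T := Π j : (cl i : Set ι), S j.1
    have hunit : ∀ j : (cl i : Set ι), IsUnit (algebraMap R (S j.1) f) := fun j => by
      by_contra hn
      obtain ⟨M, hM, hfM⟩ := exists_max_ideal_of_mem_nonunits hn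
      have hp : PrimeSpectrum.comap (algebraMap R (S j.1)) ⟨M, hM.isPrime⟩ ∈ V i :=
        Set.mem_biUnion j.2 ⟨_, rfl⟩
      rw [heV i] at hp
      exact hp hfM
    have hu : IsUnit (algebraMap R T f) := (Pi.isUnit_iff (x := algebraMap R T f)).2 hunit
    letI : Algebra (Localization.Away f) T := (IsLocalization.Away.lift f hu).toAlgebra
    haveI : IsScalarTower R (Localization.Away f) T := IsScalarTower.of_algebraMap_eq fun r =>
      (IsLocalization.Away.lift_eq f hu r).symm
    haveI : Module.Flat R T := by
      let eT := (DirectSum.linearEquivFunOnFintype R (cl i : Set ι) fun j => S j.1)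
      exact Module.Flat.of_linearEquiv eT.symm
    haveI : Module.Flat (Localization.Away f) T :=
      (Module.flat_iff_of_isLocalization (Localization.Away f) (Submonoid.powers f) T).2 inferInstance
    haveI : Module.FaithfullyFlat (Localization.Away f) T := by
      refine Module.FaithfullyFlat.of_comap_surjective fun q => ?_
      have hq : PrimeSpectrum.comap (algebraMap R (Localization.Away f)) q ∈ V i := by
        rw [heV i]
        show _ ∈ (PrimeSpectrum.basicOpen f : Set (PrimeSpectrum R))
        rw [← PrimeSpectrum.localization_away_comap_range (Localization.Away f) f]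
        exact ⟨q, rfl⟩
      simp only [V, Set.mem_iUnion, exists_prop] at hq
      obtain ⟨j, hj, P, hP⟩ := hq
      refine ⟨PrimeSpectrum.comap (Pi.evalRingHom (fun j : (cl i : Set ι) => S j.1) ⟨j, hj⟩) P, ?_⟩
      apply PrimeSpectrum.localization_comap_injective (Localization.Away f) (Submonoid.powers f)
      rw [← hP, ← PrimeSpectrum.comap_comp_apply, ← IsScalarTower.algebraMap_eq]
      rfl
    have hE : ∀ j : (cl i : Set ι), Nonempty (Split R A (ULift.{u} (N i)) (S j.1)) := fun j => by
      obtain ⟨φ⟩ := (Finset.mem_filter.1 j.2).2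
      exact exists_reindex (E j.1) φ
    obtain ⟨E', -⟩ := exists_split_pi fun j => (hE j).some
    obtain ⟨E''⟩ := exists_reindex E' (φ := (AddEquiv.refl _ : ULift.{u} (N i) ≃+
      Additive (Multiplicative (ULift.{u} (N i)))))
    obtain ⟨E₃⟩ := exists_split_transfer' (R' := Localization.Away f) E''
    exact ⟨T, inferInstance, inferInstance, inferInstance, Multiplicative (ULift.{u} (N i)), inferInstance,
      exists_bialgEquiv E₃⟩

end Groth.Agent.HomCorr
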