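import Groth.Agent.DiagRepLib.Scheme
import Groth.Agent.PushLib.SpecPush

/-!
Pushing points congruent to the unit modulo a square-zero ideal along linear maps, without charts.
-/

set_option autoImplicit false
set_option backward.isDefEq.respectTransparency false

noncomputable section

universe u

open CategoryTheory CategoryTheory.Limits MonoidalCategory CartesianMonoidalCategory AlgebraicGeometry CoactBr
open scoped MonObj TensorProduct

namespace Groth.Agent.HomCorr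

attribute [local instance] CoactBr.braidedAlgSpecOf

variable {R : Type u} [CommRing R] {G : Over (Spec (CommRingCat.of R))} [GrpObj G]
variable {B : Type u} [CommRing B] [Algebra R B] {B' : Type u} [CommRing B'] [Algebra R B']

/-- Pairs congruent modulo the ideal. -/
def pairs (a : B →ₐ[R] B') (I : Ideal B') : Subalgebra R (B × B') where
  carrier := {v | v.2 - a v.1 ∈ I}
  mul_mem' {v w} hv hw := by
    have : (v * w).2 - a (v * w).1 = (v.2 - a v.1) * w.2 + a v.1 * (w.2 - a w.1) := by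
      simp only [Prod.fst_mul, Prod.snd_mul, map_mul]; ring
    show _ ∈ I
    rw [this]
    exact add_mem (Ideal.mul_mem_right _ _ hv) (Ideal.mul_mem_left _ _ hw)
  add_mem' {v w} hv hw := by
    have : (v + w).2 - a (v + w).1 = (v.2 - a v.1) + (w.2 - a w.1) := by
      simp only [Prod.fst_add, Prod.snd_add, map_add]; ring
    show _ ∈ I
    rw [this]
    exact add_mem hv hw
  algebraMap_mem' r := by simp

variable {a : B →ₐ[R] B'} {I : Ideal B'}

/-- The first projection. -/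
def p₁ (a : B →ₐ[R] B') (I : Ideal B') : pairs a I →ₐ[R] B := (AlgHom.fst R B B').comp (pairs a I).val

/-- The second projection. -/
def p₂ (a : B →ₐ[R] B') (I : Ideal B') : pairs a I →ₐ[R] B' := (AlgHom.snd R B B').comp (pairs a I).val

/-- The constant pairs. -/
def diag (a : B →ₐ[R] B') (I : Ideal B') : B →ₐ[R] pairs a I :=
  ((AlgHom.id R B).prod a).codRestrict (pairs a I) fun b => by
    show a b - a b ∈ I
    simp

/-- The fibre square of the pairs. -/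
def fibSq (a : B →ₐ[R] B') (I : Ideal B') : PushLib.FibSq (pairs a I) B B' (B' ⧸ I) where
  u := (p₁ a I).toRingHom
  v := (p₂ a I).toRingHom
  q := (Ideal.Quotient.mk I).comp a.toRingHom
  p := Ideal.Quotient.mk I
  w x := by
    show Ideal.Quotient.mk I (a x.1.1) = Ideal.Quotient.mk I x.1.2
    exact (Ideal.Quotient.eq.2 x.2).symm
  surj := Ideal.Quotient.mk_surjective
  inj x y h1 h2 := Subtype.ext (Prod.ext h1 h2)
  lift b c h := ⟨⟨(b, c), Ideal.Quotient.eq.1 (Eq.symm h)⟩, rfl, rfl⟩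

/-- The lift of a point congruent to the unit. -/
def IsHat (a : B →ₐ[R] B') (I : Ideal B') (x : sp R B' ⟶ G) (y : sp R (pairs a I) ⟶ G) : Prop :=
  pt (p₁ a I) ≫ y = 1 ∧ pt (p₂ a I) ≫ y = x

theorem exists_isHat (a : B →ₐ[R] B') (I : Ideal B') (x : sp R B' ⟶ G)
    (hx : pt (Ideal.Quotient.mkₐ R I) ≫ x = 1) : ∃ y, IsHat a I x y := by
  have h := (fibSq a I).isPushout
  have w : PushLib.specMap (fibSq a I).p ≫ x.left = PushLib.specMap (fibSq a I).q ≫ (1 : sp R B ⟶ G).left := by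
    have e : pt ((Ideal.Quotient.mkₐ R I).comp a) ≫ (1 : sp R B ⟶ G) = 1 := MonObj.comp_one _
    exact congrArg CommaMorphism.left (hx.trans e.symm)
  let yl := h.desc x.left (1 : sp R B ⟶ G).left w
  have h1 : PushLib.specMap (fibSq a I).v ≫ yl = x.left := h.inl_desc _ _ _
  have h2 : PushLib.specMap (fibSq a I).u ≫ yl = (1 : sp R B ⟶ G).left := h.inr_desc _ _ _
  refine ⟨Over.homMk yl (h.hom_ext ?_ ?_), Over.OverMorphism.ext h2, Over.OverMorphism.ext h1⟩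
  · rw [← Category.assoc, h1]
    exact (Over.w x).trans (Over.w (pt (p₂ a I))).symm
  · rw [← Category.assoc, h2]
    exact (Over.w (1 : sp R B ⟶ G)).trans (Over.w (pt (p₁ a I))).symm

theorem IsHat.unique {x : sp R B' ⟶ G} {y y' : sp R (pairs a I) ⟶ G} (h : IsHat a I x y) (h' : IsHat a I x y') :
    y = y' :=
  Over.OverMorphism.ext ((fibSq a I).isPushout.hom_ext (congrArg CommaMorphism.left (h.2.trans h'.2.symm))
    (congrArg CommaMorphism.left (h.1.trans h'.1.symm)))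

variable {B'' : Type u} [CommRing B''] [Algebra R B'']

/-- Linear maps along which points congruent to the unit can be pushed. -/
structure IsTr (a : B →ₐ[R] B') (I : Ideal B') (a' : B →ₐ[R] B'') (I' : Ideal B'') (ℓ : B' →ₗ[R] B'') : Prop where
  one : ℓ 1 = 1
  lin : ∀ b x, ℓ (a b * x) = a' b * ℓ x
  mem : ∀ x ∈ I, ℓ x ∈ I'
  sq : ∀ x ∈ I, ∀ y ∈ I, x * y = 0
  sq' : ∀ x ∈ I', ∀ y ∈ I', x * y = 0

variable {a' : B →ₐ[R] B''} {I' : Ideal B''} {ℓ : B' →ₗ[R] B''}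

/-- The ring map induced by a linear map. -/
def q (hℓ : IsTr a I a' I' ℓ) : pairs a I →ₐ[R] B'' :=
  AlgHom.ofLinearMap (ℓ.comp (p₂ a I).toLinearMap) (by
    show ℓ (p₂ a I 1) = 1
    rw [map_one, hℓ.one]) (fun v w => by
    show ℓ (v.1.2 * w.1.2) = ℓ v.1.2 * ℓ w.1.2
    obtain ⟨n, hn, hv⟩ : ∃ n ∈ I, v.1.2 = a v.1.1 + n := ⟨_, v.2, by ring⟩
    obtain ⟨m, hm, hw⟩ : ∃ m ∈ I, w.1.2 = a w.1.1 + m := ⟨_, w.2, by ring⟩
    have ha : ∀ b, ℓ (a b) = a' b := fun b => by simpa [hℓ.one] using hℓ.lin b 1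
    rw [hv, hw]
    simp only [mul_add, add_mul, map_add, ha, hℓ.sq n hn m hm, map_zero,
      hℓ.sq' _ (hℓ.mem n hn) _ (hℓ.mem m hm), hℓ.lin, mul_comm n (a w.1.1), mul_comm (ℓ n) (a' w.1.1)])

/-- The pushforward of a point congruent to the unit along a linear map. -/
def IsPush (hℓ : IsTr a I a' I' ℓ) (x : sp R B' ⟶ G) (z : sp R B'' ⟶ G) : Prop :=
  ∃ y : sp R (pairs a I) ⟶ G, IsHat a I x y ∧ pt (q hℓ) ≫ y = z

variable {hℓ : IsTr a I a' I' ℓ}

theorem exists_isPush (hℓ : IsTr a I a' I' ℓ) (x : sp R B' ⟶ G) (hx : pt (Ideal.Quotient.mkₐ R I) ≫ x = 1) :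
    ∃ z, IsPush hℓ x z := by
  obtain ⟨y, hy⟩ := exists_isHat a I x hx
  exact ⟨_, y, hy, rfl⟩

theorem IsPush.unique {x : sp R B' ⟶ G} {z z' : sp R B'' ⟶ G} (h : IsPush hℓ x z) (h' : IsPush hℓ x z') :
    z = z' := by
  obtain ⟨y, hy, rfl⟩ := h
  obtain ⟨y', hy', rfl⟩ := h'
  rw [hy.unique hy']

theorem IsPush.mul {x x' : sp R B' ⟶ G} {z z' : sp R B'' ⟶ G} (h : IsPush hℓ x z) (h' : IsPush hℓ x' z') :
    IsPush hℓ (x * x') (z * z') := by
  obtain ⟨y, hy, rfl⟩ := h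
  obtain ⟨y', hy', rfl⟩ := h'
  exact ⟨y * y', ⟨by rw [MonObj.comp_mul, hy.1, hy'.1, one_mul], by rw [MonObj.comp_mul, hy.2, hy'.2]⟩,
    MonObj.comp_mul _ _ _⟩

theorem IsPush.conj {x : sp R B' ⟶ G} {z : sp R B'' ⟶ G} (h : IsPush hℓ x z) (c : sp R B ⟶ G) :
    IsPush hℓ ((pt a ≫ c) * x * (pt a ≫ c)⁻¹) ((pt a' ≫ c) * z * (pt a' ≫ c)⁻¹) := by
  obtain ⟨y, hy, rfl⟩ := h
  refine ⟨(pt (diag a I) ≫ c) * y * (pt (diag a I) ≫ c)⁻¹, ⟨?_, ?_⟩, ?_⟩
  · simp only [MonObj.comp_mul, GrpObj.comp_inv, hy.1, mul_one, mul_inv_cancel]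
  · simp only [MonObj.comp_mul, GrpObj.comp_inv, hy.2]
    rw [← Category.assoc, ← pt_comp, show (p₂ a I).comp (diag a I) = a from rfl]
  · simp only [MonObj.comp_mul, GrpObj.comp_inv]
    rw [← Category.assoc, ← pt_comp, show (q hℓ).comp (diag a I) = a' from AlgHom.ext fun b => by
      show ℓ (a b) = a' b
      simpa [hℓ.one] using hℓ.lin b 1]

/-- A pushforward is congruent to the unit. -/
theorem IsPush.congr_one {x : sp R B' ⟶ G} {z : sp R B'' ⟶ G} (h : IsPush hℓ x z) :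
    pt (Ideal.Quotient.mkₐ R I') ≫ z = 1 := by
  obtain ⟨y, hy, rfl⟩ := h
  have e : (Ideal.Quotient.mkₐ R I').comp (q hℓ) = ((Ideal.Quotient.mkₐ R I').comp a').comp (p₁ a I) := by
    refine AlgHom.ext fun v => Ideal.Quotient.eq.2 ?_
    show ℓ v.1.2 - a' v.1.1 ∈ _
    have : ℓ v.1.2 - a' v.1.1 = ℓ (v.1.2 - a v.1.1) := by
      rw [map_sub, show ℓ (a v.1.1) = a' v.1.1 by simpa [hℓ.one] using hℓ.lin v.1.1 1]
    rw [this]
    exact hℓ.mem _ v.2
  rw [← Category.assoc, ← pt_comp, e, pt_comp, Category.assoc, hy.1, MonObj.comp_one]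

/-- Pushforwards are natural. -/
theorem IsPush.natural {x : sp R B' ⟶ G} {z : sp R B'' ⟶ G} (h : IsPush hℓ x z) {C C' C'' : Type u}
    [CommRing C] [Algebra R C] [CommRing C'] [Algebra R C'] [CommRing C''] [Algebra R C''] {c : C →ₐ[R] C'}
    {Ic : Ideal C'} {c' : C →ₐ[R] C''} {Ic' : Ideal C''} {ℓ' : C' →ₗ[R] C''} (hℓ' : IsTr c Ic c' Ic' ℓ')
    (β : B →ₐ[R] C) (β' : B' →ₐ[R] C') (β'' : B'' →ₐ[R] C'') (hI : ∀ x ∈ I, β' x ∈ Ic)
    (hβ : β'.comp a = c.comp β) (hcomm : ∀ v, β'' (ℓ v) = ℓ' (β' v)) :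
    IsPush hℓ' (pt β' ≫ x) (pt β'' ≫ z) := by
  obtain ⟨y, hy, rfl⟩ := h
  let m : pairs a I →ₐ[R] pairs c Ic :=
    ((β.comp (p₁ a I)).prod (β'.comp (p₂ a I))).codRestrict (pairs c Ic) fun v => by
      show β' v.1.2 - c (β v.1.1) ∈ Ic
      rw [show c (β v.1.1) = β' (a v.1.1) from (DFunLike.congr_fun hβ _).symm, ← map_sub]
      exact hI _ v.2
  refine ⟨pt m ≫ y, ⟨?_, ?_⟩, ?_⟩
  · rw [← Category.assoc, ← pt_comp, show (p₁ c Ic).comp m = β.comp (p₁ a I) from rfl, pt_comp, Category.assoc,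
      hy.1, MonObj.comp_one]
  · rw [← Category.assoc, ← pt_comp, show (p₂ c Ic).comp m = β'.comp (p₂ a I) from rfl, pt_comp, Category.assoc,
      hy.2]
  · rw [← Category.assoc, ← pt_comp, ← Category.assoc, ← pt_comp, show (q hℓ').comp m = β''.comp (q hℓ)
      from AlgHom.ext fun v => (hcomm v.1.2).symm]

theorem pt_id' {B : Type u} [CommRing B] [Algebra R B] : pt (AlgHom.id R B) = 𝟙 (sp R B) := by
  ext1
  simp
  rfl

theorem isTr_id {C : Type u} [CommRing C] [Algebra R C] {Ic : Ideal C} (h : ∀ x ∈ Ic, ∀ y ∈ Ic, x * y = 0) :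
    IsTr (AlgHom.id R C) Ic (AlgHom.id R C) Ic LinearMap.id :=
  ⟨rfl, fun _ _ => rfl, fun _ h => h, h, h⟩

/-- A point coming from the base of the pairs is its own pushforward. -/
theorem isPush_const (hℓ : IsTr a I a' I' ℓ) {Ib : Ideal B} (hIb : ∀ x ∈ Ib, ∀ y ∈ Ib, x * y = 0)
    (hI : ∀ x ∈ Ib, a x ∈ I) (z : sp R B ⟶ G) (hz : pt (Ideal.Quotient.mkₐ R Ib) ≫ z = 1) :
    IsPush hℓ (pt a ≫ z) (pt a' ≫ z) := by
  obtain ⟨y, hy⟩ := exists_isHat (AlgHom.id R B) Ib z hz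
  have h : IsPush (isTr_id (R := R) hIb) z z := by
    refine ⟨y, hy, ?_⟩
    rw [show q (isTr_id (R := R) hIb) = p₂ (AlgHom.id R B) Ib from AlgHom.ext fun v => rfl, hy.2]
  exact h.natural hℓ (AlgHom.id R B) a a' hI rfl fun v => by
    show a' v = ℓ (a v)
    simpa [hℓ.one] using (hℓ.lin v 1).symm

end Groth.Agent.HomCorr
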