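import Groth.Agent.HomCorrLib.HomLift
import Groth.Agent.S14049
import Groth.Agent.S0440

/-!
Immersions over a nilpotent thickening.
-/

set_option autoImplicit false
set_option backward.isDefEq.respectTransparency false

noncomputable section

universe u

open CategoryTheory CategoryTheory.Limits MonoidalCategory CartesianMonoidalCategory AlgebraicGeometry

namespace Groth.Agent.HomCorr

open PowEtCentralLib (res inc inc_left)

variable {R : Type u} [CommRing R] {J : Ideal R}

theorem surjective_inc (hJ : IsNilpotent J) (X : Over (Spec (CommRingCat.of R))) :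
    Function.Surjective (inc (jJ J) X).left := by
  haveI : Surjective (jJ J) := ⟨fun P => by
    have hle : J ≤ P.asIdeal := fun r hr => by
      obtain ⟨n, hn⟩ := hJ
      refine P.isPrime.mem_of_pow_mem n ?_
      have h := Ideal.pow_mem_pow hr n
      rw [hn] at h
      rw [show r ^ n = 0 from h]
      exact P.asIdeal.zero_mem
    have : P ∈ Set.range (PrimeSpectrum.comap (Ideal.Quotient.mk J)) := by
      rw [range_comap_of_surjective _ _ Ideal.Quotient.mk_surjective, Ideal.mk_ker]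
      exact hle
    exact this⟩
  exact (inferInstance : Surjective (inc (jJ J) X).left).1

theorem surjective_of_mod {B C : Type u} [CommRing B] [CommRing C] (ρ : R →+* C) (φ : C →+* B) (hJ : IsNilpotent J)
    (h : ∀ b, ∃ a, b - φ a ∈ J.map (φ.comp ρ)) : Function.Surjective φ := by
  obtain ⟨n, hn⟩ := hJ
  have key : ∀ k : ℕ, ∀ b, ∃ a, b - φ a ∈ (J.map (φ.comp ρ)) ^ k := by
    intro k
    induction k with
    | zero => exact fun b => ⟨0, by rw [pow_zero, Ideal.one_eq_top]; trivial⟩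
    | succ k ih =>
      intro b
      obtain ⟨a, ha⟩ := ih b
      suffices hs : ∀ x ∈ (J.map (φ.comp ρ)) ^ k, ∃ a, x - φ a ∈ (J.map (φ.comp ρ)) ^ (k + 1) by
        obtain ⟨a', ha'⟩ := hs _ ha
        exact ⟨a + a', by rw [map_add, ← sub_sub]; exact ha'⟩
      intro x hx
      have hx' : x ∈ Ideal.map (φ.comp ρ) (J ^ k) := by rwa [Ideal.map_pow]
      rw [Ideal.map] at hx'
      refine Submodule.span_induction (p := fun x _ => ∃ a, x - φ a ∈ (J.map (φ.comp ρ)) ^ (k + 1)) ?_ ?_ ?_ ?_ hx'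
      · rintro _ ⟨r, -, rfl⟩
        exact ⟨ρ r, by simp⟩
      · exact ⟨0, by simp⟩
      · rintro p q - - ⟨a, ha⟩ ⟨a', ha'⟩
        exact ⟨a + a', by rw [map_add, add_sub_add_comm]; exact add_mem ha ha'⟩
      · rintro c p hp ⟨a, ha⟩
        obtain ⟨e, he⟩ := h c
        have hp' : p ∈ (J.map (φ.comp ρ)) ^ k := by rw [← Ideal.map_pow]; exact hp
        refine ⟨e * a, ?_⟩
        have : c • p - φ (e * a) = (c - φ e) * p + φ e * (p - φ a) := by rw [map_mul, smul_eq_mul]; ring
        rw [this, pow_succ']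
        exact add_mem (Ideal.mul_mem_mul he hp') (Ideal.mul_mem_left _ _ (pow_succ' (J.map (φ.comp ρ)) k ▸ ha))
  intro b
  obtain ⟨a, ha⟩ := key n b
  rw [← Ideal.map_pow, hn, Submodule.zero_eq_bot, Ideal.map_bot, Submodule.mem_bot, sub_eq_zero] at ha
  exact ⟨a, ha.symm⟩

/-- A morphism which is a closed immersion over a nilpotent thickening is one. -/
theorem isClosedImmersion_of_nilpotent (hJ : IsNilpotent J) {X Y : Over (Spec (CommRingCat.of R))} (l : X ⟶ Y)
    (h : IsClosedImmersion ((inc (jJ J) X).left ≫ l.left)) : IsClosedImmersion l.left := by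
  let c := (inc (jJ J) X).left
  haveI : IsClosedImmersion (c ≫ l.left) := h
  have hsurj : Function.Surjective c := surjective_inc hJ X
  have haff : ∀ V : Y.left.Opens, IsAffineOpen V → IsAffineOpen (l.left ⁻¹ᵁ V) := by
    intro V hV
    have h1 : IsAffineOpen (c ⁻¹ᵁ (l.left ⁻¹ᵁ V)) := hV.preimage (c ≫ l.left)
    haveI : IsAffine (c ⁻¹ᵁ (l.left ⁻¹ᵁ V)).toScheme := h1
    refine Groth.Agent.S0440.result (c ∣_ (l.left ⁻¹ᵁ V)) ?_
    intro x
    obtain ⟨z, hz⟩ := hsurj x.1
    refine ⟨⟨z, ?_⟩, ?_⟩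
    · show c z ∈ l.left ⁻¹ᵁ V
      rw [hz]; exact x.2
    · apply Subtype.ext
      exact (morphismRestrict_base_coe c (l.left ⁻¹ᵁ V) _).trans hz
  rw [isClosedImmersion_iff_isAffineHom]
  refine ⟨⟨haff⟩, fun V hV => ?_⟩
  let U := l.left ⁻¹ᵁ V
  have hU : IsAffineOpen U := haff V hV
  let ρ : R →+* Γ(Y.left, V) := ((Scheme.ΓSpecIso (CommRingCat.of R)).inv ≫ Y.hom.appLE ⊤ V le_top).hom
  have hρ : (l.left.app V).hom.comp ρ = ((Scheme.ΓSpecIso (CommRingCat.of R)).inv ≫ X.hom.appLE ⊤ U le_top).hom := by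
    rw [← CommRingCat.hom_comp, Category.assoc]
    refine congrArg CommRingCat.Hom.hom (congrArg ((Scheme.ΓSpecIso (CommRingCat.of R)).inv ≫ ·) ?_)
    rw [Scheme.Hom.app_eq_appLE, Scheme.Hom.appLE_comp_appLE]
    simp only [Over.w l]
    rfl
  refine surjective_of_mod ρ (l.left.app V).hom hJ fun b => ?_
  have hc : Function.Surjective ((c ≫ l.left).app V) := Scheme.Hom.app_surjective _ V hV
  obtain ⟨a, ha⟩ := hc (c.app U b)
  refine ⟨a, ?_⟩
  rw [Scheme.Hom.comp_app] at ha
  have h0 : c.app U (b - l.left.app V a) = 0 := by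
    rw [map_sub, sub_eq_zero]
    exact ha.symm
  -- the kernel of the restriction is generated by the ideal
  let B : Type u := Γ(X.left, U)
  let K : Ideal B := J.map ((l.left.app V).hom.comp ρ)
  let mk : CommRingCat.of B ⟶ CommRingCat.of (B ⧸ K) := CommRingCat.ofHom (Ideal.Quotient.mk K)
  let θ : (R ⧸ J) →+* B ⧸ K := Ideal.Quotient.lift J ((Ideal.Quotient.mk K).comp ((l.left.app V).hom.comp ρ))
    fun r hr => Ideal.Quotient.eq_zero_iff_mem.2 (Ideal.mem_map_of_mem _ hr)
  have hcond : (Spec.map mk ≫ hU.fromSpec) ≫ X.hom = Spec.map (CommRingCat.ofHom θ) ≫ jJ J := by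
    have e := (isAffineOpen_top (Spec (CommRingCat.of R))).SpecMap_appLE_fromSpec X.hom hU (le_top : U ≤ X.hom ⁻¹ᵁ ⊤)
    rw [IsAffineOpen.fromSpec_top, Scheme.isoSpec_Spec_inv, ← Spec.map_comp] at e
    rw [Category.assoc, ← e, ← Spec.map_comp, ← Spec.map_comp]
    refine congrArg Spec.map (CommRingCat.hom_ext ?_)
    refine RingHom.ext fun r => ?_
    show Ideal.Quotient.mk K (((Scheme.ΓSpecIso (CommRingCat.of R)).inv ≫ X.hom.appLE ⊤ U le_top).hom r) = θ (Ideal.Quotient.mk J r)
    rw [← hρ]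
    rfl
  let k : Spec (CommRingCat.of (B ⧸ K)) ⟶ (res (jJ J) X).left :=
    pullback.lift (Spec.map mk ≫ hU.fromSpec) (Spec.map (CommRingCat.ofHom θ)) hcond
  have hk : k ≫ c = Spec.map mk ≫ hU.fromSpec := by
    show k ≫ (inc (jJ J) X).left = _
    rw [inc_left]
    exact pullback.lift_fst _ _ _
  have hU' : IsAffineOpen (c ⁻¹ᵁ U) := hU.preimage c
  have hsub : Set.range k ⊆ Set.range hU'.fromSpec := by
    rintro _ ⟨t, rfl⟩
    rw [hU'.range_fromSpec]
    show c (k t) ∈ U
    rw [show c (k t) = (k ≫ c) t from rfl, hk]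
    show hU.fromSpec (Spec.map mk t) ∈ (U : Set X.left)
    rw [← hU.range_fromSpec]
    exact ⟨_, rfl⟩
  obtain ⟨γ, hγ⟩ := Spec.map_surjective (IsOpenImmersion.lift hU'.fromSpec k hsub)
  have e : Spec.map (c.appLE U (c ⁻¹ᵁ U) le_rfl ≫ γ) ≫ hU.fromSpec = Spec.map mk ≫ hU.fromSpec := by
    rw [Spec.map_comp, Category.assoc, hU.SpecMap_appLE_fromSpec c hU', ← Category.assoc, hγ,
      IsOpenImmersion.lift_fac, hk]
  have e' := Spec.map_injective ((cancel_mono hU.fromSpec).1 e)
  show b - l.left.app V a ∈ K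
  rw [← Ideal.Quotient.eq_zero_iff_mem]
  show mk (b - l.left.app V a) = 0
  rw [← e']
  show γ (c.appLE U (c ⁻¹ᵁ U) le_rfl (b - l.left.app V a)) = 0
  rw [← Scheme.Hom.app_eq_appLE, h0]
  exact map_zero γ.hom

/-- A morphism which is an immersion over a nilpotent thickening is one. -/
theorem isImmersion_of_nilpotent (hJ : IsNilpotent J) {X Y : Over (Spec (CommRingCat.of R))} (f : X ⟶ Y)
    (h : IsImmersion ((inc (jJ J) X).left ≫ f.left)) : IsImmersion f.left := by
  let m := (inc (jJ J) X).left ≫ f.left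
  haveI : IsImmersion m := h
  let U := m.coborderRange
  have hsub : Set.range f.left ⊆ Set.range U.ι := by
    rintro _ ⟨x, rfl⟩
    obtain ⟨z, rfl⟩ := surjective_inc hJ X x
    exact ⟨m.liftCoborder z, (congrArg (fun φ => φ z) (Scheme.Hom.liftCoborder_ι m)).trans rfl⟩
  let l := IsOpenImmersion.lift U.ι f.left hsub
  have hl : l ≫ U.ι = f.left := IsOpenImmersion.lift_fac _ _ _
  let Y' : Over (Spec (CommRingCat.of R)) := Over.mk (U.ι ≫ Y.hom)
  let l' : X ⟶ Y' := Over.homMk l (by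
    show l ≫ U.ι ≫ Y.hom = X.hom
    rw [← Category.assoc, hl, Over.w])
  have e : (inc (jJ J) X).left ≫ l = m.liftCoborder := by
    rw [← cancel_mono U.ι, Category.assoc, hl, Scheme.Hom.liftCoborder_ι]
  haveI : IsClosedImmersion l := isClosedImmersion_of_nilpotent hJ l' (by
    show IsClosedImmersion ((inc (jJ J) X).left ≫ l)
    rw [e]
    infer_instance)
  rw [← hl]
  infer_instance

end Groth.Agent.HomCorr
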