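import Groth.Agent.HomCorrLib.Correct
import Groth.Agent.HopfLiftLib.Nilpotent
import Groth.Agent.ConjAvgLib.LiftNilp
import Groth.Agent.NormCentLib.Chart

/-!
Homomorphisms from groups of multiplicative type to smooth groups lift along nilpotent ideals.
-/

set_option autoImplicit false
set_option backward.isDefEq.respectTransparency false

noncomputable section

universe u

open CategoryTheory CategoryTheory.Limits MonoidalCategory CartesianMonoidalCategory AlgebraicGeometry CoactBr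
open scoped MonObj TensorProduct

namespace Groth.Agent.HomCorr

attribute [local instance] CoactBr.braidedAlgSpecOf

variable {R : Type u} [CommRing R]

section Quot

variable {X Y : Type u} [CommRing X] [Algebra R X] [CommRing Y] [Algebra R Y]

theorem mem_map_lin (ℓ : X →ₗ[R] Y) (K : Ideal R) {x : X} (hx : x ∈ K.map (algebraMap R X)) :
    ℓ x ∈ K.map (algebraMap R Y) := by
  have h1 : x ∈ K • (⊤ : Submodule R X) := by
    rw [Ideal.smul_top_eq_map]
    exact hx
  refine Submodule.smul_induction_on h1 (fun r hr y _ => ?_) (fun y z hy hz => ?_)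
  · rw [map_smul, Algebra.smul_def]
    exact Ideal.mul_mem_right _ _ (Ideal.mem_map_of_mem _ hr)
  · rw [map_add]
    exact add_mem hy hz

/-- The quotient by an ideal of the base. -/
abbrev Qt (L : Ideal R) (X : Type u) [CommRing X] [Algebra R X] : Type u := X ⧸ L.map (algebraMap R X)

/-- The quotient map. -/
abbrev qk (L : Ideal R) (X : Type u) [CommRing X] [Algebra R X] : X →ₐ[R] Qt L X :=
  Ideal.Quotient.mkₐ R (L.map (algebraMap R X))

/-- The algebra map on quotients. -/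
def qm (L : Ideal R) (φ : X →ₐ[R] Y) : Qt L X →ₐ[R] Qt L Y :=
  Ideal.Quotient.liftₐ _ ((qk L Y).comp φ) fun _ hx =>
    Ideal.Quotient.eq_zero_iff_mem.2 (mem_map_lin φ.toLinearMap L hx)

theorem qm_mk (L : Ideal R) (φ : X →ₐ[R] Y) (x : X) : qm L φ (qk L X x) = qk L Y (φ x) := rfl

theorem qm_comp_qk (L : Ideal R) (φ : X →ₐ[R] Y) : (qm L φ).comp (qk L X) = (qk L Y).comp φ := rfl

/-- The linear map on quotients. -/
def ql (L : Ideal R) (ℓ : X →ₗ[R] Y) : Qt L X →ₗ[R] Qt L Y where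
  toFun := Quotient.lift (fun x => qk L Y (ℓ x)) fun a b h => Ideal.Quotient.eq.2 (by
    rw [← map_sub]
    exact mem_map_lin ℓ L ((Submodule.quotientRel_def _).1 h))
  map_add' := by
    intro p q
    obtain ⟨p, rfl⟩ := Ideal.Quotient.mk_surjective p
    obtain ⟨q, rfl⟩ := Ideal.Quotient.mk_surjective q
    rw [← map_add]
    show qk L Y (ℓ (p + q)) = qk L Y (ℓ p) + qk L Y (ℓ q)
    rw [map_add, map_add]
  map_smul' := by
    intro r p
    obtain ⟨p, rfl⟩ := Ideal.Quotient.mk_surjective p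
    show qk L Y (ℓ (r • p)) = r • qk L Y (ℓ p)
    rw [map_smul, map_smul]

theorem ql_mk (L : Ideal R) (ℓ : X →ₗ[R] Y) (x : X) : ql L ℓ (qk L X x) = qk L Y (ℓ x) := rfl

theorem mul_eq_zero_qt {K : Ideal R} {x y : Qt (K * K) X} (hx : x ∈ K.map (algebraMap R (Qt (K * K) X)))
    (hy : y ∈ K.map (algebraMap R (Qt (K * K) X))) : x * y = 0 := by
  have h := Ideal.mul_mem_mul hx hy
  rw [← Ideal.map_mul, IsScalarTower.algebraMap_eq R X (Qt (K * K) X), ← Ideal.map_map,
    Ideal.Quotient.algebraMap_eq, Ideal.map_quotient_self, Submodule.mem_bot] at h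
  exact h

end Quot

variable {G : Over (Spec (CommRingCat.of R))} [GrpObj G] {A : Type u} [CommRing A] [HopfAlgebra R A]

/-- A point is a homomorphism modulo an ideal. -/
def Compat (K : Ideal R) (f : sp R A ⟶ G) : Prop :=
  pt (qk K (A ⊗[R] A)) ≫ ((pt (Algebra.TensorProduct.includeLeft : A →ₐ[R] A ⊗[R] A) ≫ f) *
    (pt (Algebra.TensorProduct.includeRight : A →ₐ[R] A ⊗[R] A) ≫ f) * (pt (Bialgebra.comulAlgHom R A) ≫ f)⁻¹) = 1

set_option maxHeartbeats 1000000 in
/-- One step of the correction. -/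
theorem exists_step [Smooth G.hom] {il : A →ₗ[R] R} (hil : HopfLift.IsIntegral R il) {K : Ideal R} (hK : IsNilpotent K)
    (f : sp R A ⟶ G) (hf : Compat K f) :
    ∃ g : sp R A ⟶ G, pt (qk K A) ≫ g = pt (qk K A) ≫ f ∧ Compat (K * K) g := by
  let i₁ : A →ₐ[R] A ⊗[R] A := Algebra.TensorProduct.includeLeft
  let i₂ : A →ₐ[R] A ⊗[R] A := Algebra.TensorProduct.includeRight
  let Δ := Bialgebra.comulAlgHom R A
  let j₁₂ : A ⊗[R] A →ₐ[R] (A ⊗[R] A) ⊗[R] A := Algebra.TensorProduct.includeLeft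
  let j₃ : A →ₐ[R] (A ⊗[R] A) ⊗[R] A := Algebra.TensorProduct.includeRight
  let j₁ := j₁₂.comp i₁
  let j₂₃ : A ⊗[R] A →ₐ[R] (A ⊗[R] A) ⊗[R] A :=
    Algebra.TensorProduct.lift (j₁₂.comp i₂) j₃ fun _ _ => Commute.all _ _
  let d₁₂ : A ⊗[R] A →ₐ[R] (A ⊗[R] A) ⊗[R] A := Algebra.TensorProduct.lift (j₁₂.comp Δ) j₃ fun _ _ => Commute.all _ _
  let d₂₃ : A ⊗[R] A →ₐ[R] (A ⊗[R] A) ⊗[R] A :=
    Algebra.TensorProduct.lift j₁ (j₂₃.comp Δ) fun _ _ => Commute.all _ _
  let E : A ⊗[R] A →ₗ[R] A := (TensorProduct.rid R A).toLinearMap ∘ₗ LinearMap.lTensor A il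
  let I₃ : (A ⊗[R] A) ⊗[R] A →ₗ[R] A ⊗[R] A :=
    (TensorProduct.rid R (A ⊗[R] A)).toLinearMap ∘ₗ LinearMap.lTensor (A ⊗[R] A) il
  have hI : ∀ p z, I₃ (j₁₂ p * z) = p * I₃ z := fun p z => by
    induction z using TensorProduct.induction_on with
    | zero => simp
    | add a b ha hb => simp only [mul_add, map_add, ha, hb]
    | tmul a b => simp [I₃, j₁₂]
  have hEl : ∀ p z, E (i₁ p * z) = p * E z := fun p z => by
    induction z using TensorProduct.induction_on with
    | zero => simp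
    | add a b ha hb => simp only [mul_add, map_add, ha, hb]
    | tmul a b => simp [E, i₁]
  have hE1 : E 1 = 1 := by simp [E, Algebra.TensorProduct.one_def, hil.one]
  have hI1 : I₃ 1 = 1 := by simp [I₃, Algebra.TensorProduct.one_def, hil.one]
  have hE : ∀ b, E (Δ b) = il b • (1 : A) := fun b => by
    have := congrArg (TensorProduct.lid R A) (hil.right b)
    rw [TensorProduct.lid_tmul] at this
    refine Eq.trans ?_ this
    show E (Coalgebra.comul (R := R) b) = _
    generalize Coalgebra.comul (R := R) b = w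
    induction w using TensorProduct.induction_on with
    | zero => simp
    | add a c ha hc => simp only [map_add, ha, hc]
    | tmul a c => simp [E]
  have hI₁₂ : ∀ p, I₃ (d₁₂ p) = Δ (E p) := fun p => by
    induction p using TensorProduct.induction_on with
    | zero => simp
    | add a b ha hb => simp only [map_add, ha, hb]
    | tmul a b =>
      simp only [d₁₂, Algebra.TensorProduct.lift_tmul, AlgHom.comp_apply]
      rw [hI]
      simp [I₃, E, j₃]
  have hIj : ∀ p, I₃ (j₂₃ p) = i₂ (E p) := fun p => by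
    induction p using TensorProduct.induction_on with
    | zero => simp
    | add a b ha hb => simp only [map_add, ha, hb]
    | tmul a b =>
      simp only [j₂₃, Algebra.TensorProduct.lift_tmul, AlgHom.comp_apply]
      rw [hI]
      simp [I₃, E, j₃, i₂]
  have hI₂₃ : ∀ p, I₃ (d₂₃ p) = i₁ (E p) := fun p => by
    induction p using TensorProduct.induction_on with
    | zero => simp
    | add a b ha hb => simp only [map_add, ha, hb]
    | tmul a b =>
      simp only [d₂₃, j₁, Algebra.TensorProduct.lift_tmul, AlgHom.comp_apply]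
      rw [hI, hIj, hE, map_smul, map_one, mul_smul_comm, mul_one, ← map_smul]
      simp [E]
  have hco : d₁₂.comp Δ = d₂₃.comp Δ := by
    refine AlgHom.ext fun a => ?_
    show d₁₂ (Coalgebra.comul (R := R) a) = d₂₃ (Coalgebra.comul (R := R) a)
    have h1 : ∀ w, d₁₂ w = LinearMap.rTensor A (Coalgebra.comul (R := R) (A := A)) w := fun w => by
      induction w using TensorProduct.induction_on with
      | zero => simp
      | add p q hp hq => simp only [map_add, hp, hq]
      | tmul p q => simp [d₁₂, j₁₂, j₃, Δ]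
    have h2 : ∀ w, d₂₃ w =
        (TensorProduct.assoc R A A A).symm (LinearMap.lTensor A (Coalgebra.comul (R := R) (A := A)) w) := fun w => by
      induction w using TensorProduct.induction_on with
      | zero => simp
      | add p q hp hq => simp only [map_add, hp, hq]
      | tmul p q =>
        simp only [d₂₃, Algebra.TensorProduct.lift_tmul, AlgHom.comp_apply, LinearMap.lTensor_tmul]
        show j₁ p * j₂₃ (Coalgebra.comul (R := R) q) = _
        generalize Coalgebra.comul (R := R) q = v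
        induction v using TensorProduct.induction_on with
        | zero => simp
        | add x y hx hy => simp only [map_add, mul_add, TensorProduct.tmul_add, hx, hy]
        | tmul x y => simp [j₁, j₂₃, j₁₂, j₃, i₁, i₂]
    rw [h1, h2]
    apply (TensorProduct.assoc R A A A).injective
    rw [LinearEquiv.apply_symm_apply]
    exact Coalgebra.coassoc_apply a
  have hb₁ : d₁₂.comp i₁ = j₁₂.comp Δ := AlgHom.ext fun a => by simp [d₁₂, i₁, j₃]
  have hb₂ : d₁₂.comp i₂ = j₂₃.comp i₂ := AlgHom.ext fun a => by simp [d₁₂, j₂₃, i₂, j₁₂]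
  have hb₃ : d₂₃.comp i₁ = j₁₂.comp i₁ := AlgHom.ext fun a => by simp [d₂₃, i₁, j₁]
  have hb₄ : d₂₃.comp i₂ = j₂₃.comp Δ := AlgHom.ext fun a => by simp [d₂₃, i₂, j₁]
  have hb₅ : j₂₃.comp i₁ = j₁₂.comp i₂ := AlgHom.ext fun a => by simp [j₂₃, i₁, j₃]
  -- transport to the level
  let L := K * K
  have hcomp : ∀ {X Y Z Y' : Type u} [CommRing X] [Algebra R X] [CommRing Y] [Algebra R Y] [CommRing Z] [Algebra R Z]
      [CommRing Y'] [Algebra R Y'] {g : Y →ₐ[R] Z} {h : X →ₐ[R] Y} {g' : Y' →ₐ[R] Z} {h' : X →ₐ[R] Y'},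
      g.comp h = g'.comp h' → (qm L g).comp (qm L h) = (qm L g').comp (qm L h') := by
    intro X Y Z Y' _ _ _ _ _ _ _ _ g h g' h' e
    refine AlgHom.ext fun x => ?_
    obtain ⟨x, rfl⟩ := Ideal.Quotient.mk_surjective x
    exact congrArg (qk L Z) (DFunLike.congr_fun e x)
  have hmem : ∀ {X Y : Type u} [CommRing X] [Algebra R X] [CommRing Y] [Algebra R Y] (φ : X →ₐ[R] Y),
      ∀ x ∈ K.map (algebraMap R (Qt L X)), qm L φ x ∈ K.map (algebraMap R (Qt L Y)) :=
    fun φ x hx => mem_map_lin (qm L φ).toLinearMap K hx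
  have htr : ∀ {X Y : Type u} [CommRing X] [Algebra R X] [CommRing Y] [Algebra R Y] (φ : X →ₐ[R] Y) (ℓ : Y →ₗ[R] X),
      ℓ 1 = 1 → (∀ b z, ℓ (φ b * z) = b * ℓ z) → IsTr (qm L φ) (K.map (algebraMap R (Qt L Y)))
        (AlgHom.id R (Qt L X)) (K.map (algebraMap R (Qt L X))) (ql L ℓ) := by
    intro X Y _ _ _ _ φ ℓ h1 hl
    refine ⟨(congrArg (qk L X) h1).trans (map_one _), fun b z => ?_, fun x hx => mem_map_lin _ K hx,
      fun x hx y hy => mul_eq_zero_qt hx hy, fun x hx y hy => mul_eq_zero_qt hx hy⟩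
    obtain ⟨b, rfl⟩ := Ideal.Quotient.mk_surjective b
    obtain ⟨z, rfl⟩ := Ideal.Quotient.mk_surjective z
    show ql L ℓ (qk L Y (φ b) * qk L Y z) = qk L X b * ql L ℓ (qk L Y z)
    rw [← map_mul, ql_mk, ql_mk, hl, map_mul]
  let fL := pt (qk L A) ≫ f
  let T₂ := Qt L (A ⊗[R] A)
  have hf' : pt (Ideal.Quotient.mkₐ R (K.map (algebraMap R T₂))) ≫
      ((pt (qm L i₁) ≫ fL) * (pt (qm L i₂) ≫ fL) * (pt (qm L Δ) ≫ fL)⁻¹) = 1 := by
    simp only [fL, pt_assoc, qm_comp_qk, MonObj.comp_mul, GrpObj.comp_inv]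
    let m : Qt K (A ⊗[R] A) →ₐ[R] T₂ ⧸ K.map (algebraMap R T₂) :=
      Ideal.Quotient.liftₐ _ ((Ideal.Quotient.mkₐ R (K.map (algebraMap R T₂))).comp (qk L (A ⊗[R] A))) fun x hx =>
        Ideal.Quotient.eq_zero_iff_mem.2 (mem_map_lin (qk L (A ⊗[R] A)).toLinearMap K hx)
    have h := congrArg (pt m ≫ ·) hf
    simp only [MonObj.comp_mul, GrpObj.comp_inv, pt_assoc, MonObj.comp_one] at h
    exact h
  obtain ⟨f', hf1, hf2⟩ := exists_correction (qm L i₁) (qm L i₂) (qm L Δ) (qm L j₁₂) (qm L j₂₃) (qm L d₁₂) (qm L d₂₃)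
    (ql L E) (ql L I₃) (htr i₁ E hE1 hEl) (htr j₁₂ I₃ hI1 hI) (hmem i₁) (hmem i₂) (hmem Δ) (hmem j₁₂) (hmem j₂₃)
    (hmem d₁₂) (hmem d₂₃) (hcomp hb₁) (hcomp hb₂) (hcomp hb₃) (hcomp hb₄) (hcomp hb₅) (hcomp hco)
    (fun v => by
      obtain ⟨v, rfl⟩ := Ideal.Quotient.mk_surjective v
      exact congrArg (qk L _) (hI₁₂ v).symm)
    (fun v => by
      obtain ⟨v, rfl⟩ := Ideal.Quotient.mk_surjective v
      exact congrArg (qk L _) (hIj v).symm)
    (fun v => by
      obtain ⟨v, rfl⟩ := Ideal.Quotient.mk_surjective v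
      exact congrArg (qk L _) (hI₂₃ v).symm)
    fL hf'
  have hnil : IsNilpotent (L.map (algebraMap R A)) := by
    obtain ⟨n, hn⟩ := hK
    refine ⟨n, le_bot_iff.1 ?_⟩
    rw [← Ideal.map_pow]
    refine (Ideal.map_mono ((Ideal.pow_right_mono Ideal.mul_le_left n).trans hn.le)).trans ?_
    simp
  obtain ⟨g, hg⟩ := ConjAvg.exists_lift_algebra hnil f'
  refine ⟨g, ?_, ?_⟩
  · let m : Qt L A ⧸ K.map (algebraMap R (Qt L A)) →ₐ[R] Qt K A :=
      Ideal.Quotient.liftₐ _ (Ideal.Quotient.factorₐ R (Ideal.map_mono (Ideal.mul_le_left : L ≤ K))) fun x hx => by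
        have := mem_map_lin (Ideal.Quotient.factorₐ R
          (Ideal.map_mono (Ideal.mul_le_left : L ≤ K) : L.map (algebraMap R A) ≤ K.map (algebraMap R A))).toLinearMap K hx
        rwa [IsScalarTower.algebraMap_eq R A (Qt K A), ← Ideal.map_map, Ideal.Quotient.algebraMap_eq,
          Ideal.map_quotient_self, Submodule.mem_bot] at this
    have e : qk K A = (m.comp (Ideal.Quotient.mkₐ R (K.map (algebraMap R (Qt L A))))).comp (qk L A) := rfl
    rw [e, pt_comp, pt_comp, Category.assoc, Category.assoc, Category.assoc, Category.assoc, hg]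
    exact congrArg (pt m ≫ ·) hf1
  · show pt (qk L (A ⊗[R] A)) ≫ _ = 1
    simp only [MonObj.comp_mul, GrpObj.comp_inv, pt_assoc, ← qm_comp_qk]
    simp only [pt_comp, Category.assoc]
    rw [hg]
    exact mul_inv_eq_one.2 hf2

/-- A point which is multiplicative on the universal pair of points is a homomorphism. -/
theorem isMonHom_of_mul (f : sp R A ⟶ G)
    (h : (pt (Algebra.TensorProduct.includeLeft : A →ₐ[R] A ⊗[R] A) ≫ f) *
      (pt (Algebra.TensorProduct.includeRight : A →ₐ[R] A ⊗[R] A) ≫ f) = pt (Bialgebra.comulAlgHom R A) ≫ f) :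
    IsMonHom f := by
  haveI := NormCent.isIso_U (R := R) A A
  have hmul : μ[sp R A] ≫ f = (f ⊗ₘ f) ≫ μ[G] := by
    rw [← cancel_epi (lift (pt (Algebra.TensorProduct.includeLeft : A →ₐ[R] A ⊗[R] A))
      (pt (Algebra.TensorProduct.includeRight : A →ₐ[R] A ⊗[R] A)))]
    rw [← Category.assoc, lift_map_assoc, ← Hom.mul_def, ← Hom.mul_def, h, DiagRep.pt_mul_conv, ← DiagRep.toConv_comul]
  have h1 : η[sp R A] ≫ f = η[G] := by
    have e : (η[sp R A] ≫ f) * (η[sp R A] ≫ f) = η[sp R A] ≫ f := by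
      have h2 : (1 : 𝟙_ (Over (Spec (CommRingCat.of R))) ⟶ sp R A) * 1 = 1 := one_mul 1
      have h3 := congrArg (· ≫ f) h2
      simp only [Hom.mul_def, Category.assoc] at h3
      rw [hmul, lift_map_assoc, ← Hom.mul_def] at h3
      have h4 : (1 : 𝟙_ (Over (Spec (CommRingCat.of R))) ⟶ sp R A) = η[sp R A] := by
        rw [Hom.one_def, toUnit_unique (toUnit _) (𝟙 _), Category.id_comp]
      rw [h4] at h3
      exact h3
    have e1 := mul_eq_right.1 e
    rw [e1, Hom.one_def, toUnit_unique (toUnit _) (𝟙 _), Category.id_comp]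
  exact { one_hom := h1, mul_hom := hmul }

/-- Homomorphisms from groups with an integral to smooth groups lift along nilpotent ideals. -/
theorem exists_lift [Smooth G.hom] {il : A →ₗ[R] R} (hil : HopfLift.IsIntegral R il) {I : Ideal R} (hI : IsNilpotent I)
    (f₀ : sp R (Qt I A) ⟶ G)
    (h₀ : (pt (qm I (Algebra.TensorProduct.includeLeft : A →ₐ[R] A ⊗[R] A)) ≫ f₀) *
      (pt (qm I (Algebra.TensorProduct.includeRight : A →ₐ[R] A ⊗[R] A)) ≫ f₀) =
        pt (qm I (Bialgebra.comulAlgHom R A)) ≫ f₀) :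
    ∃ f : sp R A ⟶ G, IsMonHom f ∧ pt (qk I A) ≫ f = f₀ := by
  obtain ⟨N, hN⟩ := hI
  have hnil : IsNilpotent (I.map (algebraMap R A)) := ⟨N, by rw [← Ideal.map_pow, hN]; exact Ideal.map_bot⟩
  obtain ⟨f, hf⟩ := ConjAvg.exists_lift_algebra hnil f₀
  have key : ∀ k : ℕ, ∃ g : sp R A ⟶ G, pt (qk I A) ≫ g = f₀ ∧ Compat (I ^ 2 ^ k) g := by
    intro k
    induction k with
    | zero =>
      refine ⟨f, hf, ?_⟩
      rw [pow_zero, pow_one]
      show pt (qk I (A ⊗[R] A)) ≫ _ = 1
      simp only [MonObj.comp_mul, GrpObj.comp_inv, pt_assoc, ← qm_comp_qk]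
      simp only [pt_comp, Category.assoc]
      rw [hf]
      exact mul_inv_eq_one.2 h₀
    | succ k ih =>
      obtain ⟨g, hg, hc⟩ := ih
      have hle : I ^ 2 ^ k ≤ I := Ideal.pow_le_self (pow_ne_zero k two_ne_zero)
      obtain ⟨g', hg', hc'⟩ := exists_step hil
        ⟨N, le_bot_iff.1 ((Ideal.pow_right_mono hle N).trans hN.le)⟩ g hc
      refine ⟨g', ?_, by rwa [pow_succ, pow_mul, sq]⟩
      have e : qk I A = (Ideal.Quotient.factorₐ R (Ideal.map_mono hle)).comp (qk (I ^ 2 ^ k) A) := rfl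
      rw [← hg, e, pt_comp, Category.assoc, Category.assoc, hg']
  obtain ⟨g, hg, hc⟩ := key N
  refine ⟨g, isMonHom_of_mul g ?_, hg⟩
  have h0 : I ^ 2 ^ N = ⊥ := le_bot_iff.1 ((Ideal.pow_le_pow_right Nat.lt_two_pow_self.le).trans hN.le)
  let X := A ⊗[R] A
  let r : Qt (I ^ 2 ^ N) X →ₐ[R] X := Ideal.Quotient.liftₐ _ (AlgHom.id R X) fun x hx => by
    rw [h0, Ideal.map_bot, Submodule.mem_bot] at hx
    exact hx
  have e : r.comp (qk (I ^ 2 ^ N) X) = AlgHom.id R X := rfl
  have h := congrArg (pt r ≫ ·) hc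
  simp only [MonObj.comp_one, ← Category.assoc, ← pt_comp] at h
  erw [e, pt_id', Category.id_comp] at h
  exact mul_inv_eq_one.1 h

end Groth.Agent.HomCorr
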