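import Groth.Agent.HomCorrLib.HomLift

/-!
Homomorphisms lift along square-zero ideals as soon as they lift as morphisms.
-/

set_option autoImplicit false
set_option backward.isDefEq.respectTransparency false

noncomputable section

universe u

open CategoryTheory CategoryTheory.Limits MonoidalCategory CartesianMonoidalCategory AlgebraicGeometry CoactBr
open scoped MonObj TensorProduct

namespace Groth.Agent.HomCorr

attribute [local instance] CoactBr.braidedAlgSpecOf

open PowEtCentralLib (res inc resMap tau tau_mul tau_comp tau_eq_iff resMap_inc inc_left)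

variable {R : Type u} [CommRing R] {G : Over (Spec (CommRingCat.of R))} [GrpObj G] {A : Type u} [CommRing A] [HopfAlgebra R A]

set_option maxHeartbeats 1000000 in
/-- One step of the correction. -/
theorem exists_step_sq {il : A →ₗ[R] R} (hil : HopfLift.IsIntegral R il) {K : Ideal R} (hK : K * K = ⊥)
    (f : sp R A ⟶ G) (hf : Compat K f) :
    ∃ g : sp R A ⟶ G, pt (qk K A) ≫ g = pt (qk K A) ≫ f ∧ Compat (K * K) g := by
  let i₁ : A →ₐ[R] A ⊗[R] A := Algebra.TensorProduct.includeLeft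
  let i₂ : A →ₐ[R] A ⊗[R] A := Algebra.TensorProduct.includeRight
  let Δ := Bialgebra.comulAlgHom R A
  let j₁₂ : A ⊗[R] A →ₐ[R] (A ⊗[R] A) ⊗[R] A := Algebra.TensorProduct.includeLeft
  let j₃ : A →ₐ[R] (A ⊗[R] A) ⊗[R] A := Algebra.TensorProduct.includeRight
  let j₁ := j₁₂.comp i₁
  let j₂₃ : A ⊗[R] A →ₐ[R] (A ⊗[R] A) ⊗[R] A :=
    Algebra.TensorProduct.lift (j₁₂.comp i₂) j₃ fun _ _ => Commute.all _ _
  let d₁₂ : A ⊗[R] A →ₐ[R] (A ⊗[R] A) ⊗[R] A := Algebra.TensorProduct.lift (j₁₂.comp Δ) j₃ fun _ _ => Commute.all _ _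
  let d₂₃ : A ⊗[R] A →ₐ[R] (A ⊗[R] A) ⊗[R] A :=
    Algebra.TensorProduct.lift j₁ (j₂₃.comp Δ) fun _ _ => Commute.all _ _
  let E : A ⊗[R] A →ₗ[R] A := (TensorProduct.rid R A).toLinearMap ∘ₗ LinearMap.lTensor A il
  let I₃ : (A ⊗[R] A) ⊗[R] A →ₗ[R] A ⊗[R] A :=
    (TensorProduct.rid R (A ⊗[R] A)).toLinearMap ∘ₗ LinearMap.lTensor (A ⊗[R] A) il
  have hI : ∀ p z, I₃ (j₁₂ p * z) = p * I₃ z := fun p z => by
    induction z using TensorProduct.induction_on with
    | zero => simp
    | add a b ha hb => simp only [mul_add, map_add, ha, hb]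
    | tmul a b => simp [I₃, j₁₂]
  have hEl : ∀ p z, E (i₁ p * z) = p * E z := fun p z => by
    induction z using TensorProduct.induction_on with
    | zero => simp
    | add a b ha hb => simp only [mul_add, map_add, ha, hb]
    | tmul a b => simp [E, i₁]
  have hE1 : E 1 = 1 := by simp [E, Algebra.TensorProduct.one_def, hil.one]
  have hI1 : I₃ 1 = 1 := by simp [I₃, Algebra.TensorProduct.one_def, hil.one]
  have hE : ∀ b, E (Δ b) = il b • (1 : A) := fun b => by
    have := congrArg (TensorProduct.lid R A) (hil.right b)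
    rw [TensorProduct.lid_tmul] at this
    refine Eq.trans ?_ this
    show E (Coalgebra.comul (R := R) b) = _
    generalize Coalgebra.comul (R := R) b = w
    induction w using TensorProduct.induction_on with
    | zero => simp
    | add a c ha hc => simp only [map_add, ha, hc]
    | tmul a c => simp [E]
  have hI₁₂ : ∀ p, I₃ (d₁₂ p) = Δ (E p) := fun p => by
    induction p using TensorProduct.induction_on with
    | zero => simp
    | add a b ha hb => simp only [map_add, ha, hb]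
    | tmul a b =>
      simp only [d₁₂, Algebra.TensorProduct.lift_tmul, AlgHom.comp_apply]
      rw [hI]
      simp [I₃, E, j₃]
  have hIj : ∀ p, I₃ (j₂₃ p) = i₂ (E p) := fun p => by
    induction p using TensorProduct.induction_on with
    | zero => simp
    | add a b ha hb => simp only [map_add, ha, hb]
    | tmul a b =>
      simp only [j₂₃, Algebra.TensorProduct.lift_tmul, AlgHom.comp_apply]
      rw [hI]
      simp [I₃, E, j₃, i₂]
  have hI₂₃ : ∀ p, I₃ (d₂₃ p) = i₁ (E p) := fun p => by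
    induction p using TensorProduct.induction_on with
    | zero => simp
    | add a b ha hb => simp only [map_add, ha, hb]
    | tmul a b =>
      simp only [d₂₃, j₁, Algebra.TensorProduct.lift_tmul, AlgHom.comp_apply]
      rw [hI, hIj, hE, map_smul, map_one, mul_smul_comm, mul_one, ← map_smul]
      simp [E]
  have hco : d₁₂.comp Δ = d₂₃.comp Δ := by
    refine AlgHom.ext fun a => ?_
    show d₁₂ (Coalgebra.comul (R := R) a) = d₂₃ (Coalgebra.comul (R := R) a)
    have h1 : ∀ w, d₁₂ w = LinearMap.rTensor A (Coalgebra.comul (R := R) (A := A)) w := fun w => by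
      induction w using TensorProduct.induction_on with
      | zero => simp
      | add p q hp hq => simp only [map_add, hp, hq]
      | tmul p q => simp [d₁₂, j₁₂, j₃, Δ]
    have h2 : ∀ w, d₂₃ w =
        (TensorProduct.assoc R A A A).symm (LinearMap.lTensor A (Coalgebra.comul (R := R) (A := A)) w) := fun w => by
      induction w using TensorProduct.induction_on with
      | zero => simp
      | add p q hp hq => simp only [map_add, hp, hq]
      | tmul p q =>
        simp only [d₂₃, Algebra.TensorProduct.lift_tmul, AlgHom.comp_apply, LinearMap.lTensor_tmul]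
        show j₁ p * j₂₃ (Coalgebra.comul (R := R) q) = _
        generalize Coalgebra.comul (R := R) q = v
        induction v using TensorProduct.induction_on with
        | zero => simp
        | add x y hx hy => simp only [map_add, mul_add, TensorProduct.tmul_add, hx, hy]
        | tmul x y => simp [j₁, j₂₃, j₁₂, j₃, i₁, i₂]
    rw [h1, h2]
    apply (TensorProduct.assoc R A A A).injective
    rw [LinearEquiv.apply_symm_apply]
    exact Coalgebra.coassoc_apply a
  have hb₁ : d₁₂.comp i₁ = j₁₂.comp Δ := AlgHom.ext fun a => by simp [d₁₂, i₁, j₃]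
  have hb₂ : d₁₂.comp i₂ = j₂₃.comp i₂ := AlgHom.ext fun a => by simp [d₁₂, j₂₃, i₂, j₁₂]
  have hb₃ : d₂₃.comp i₁ = j₁₂.comp i₁ := AlgHom.ext fun a => by simp [d₂₃, i₁, j₁]
  have hb₄ : d₂₃.comp i₂ = j₂₃.comp Δ := AlgHom.ext fun a => by simp [d₂₃, i₂, j₁]
  have hb₅ : j₂₃.comp i₁ = j₁₂.comp i₂ := AlgHom.ext fun a => by simp [j₂₃, i₁, j₃]
  -- transport to the level
  let L := K * K
  have hcomp : ∀ {X Y Z Y' : Type u} [CommRing X] [Algebra R X] [CommRing Y] [Algebra R Y] [CommRing Z] [Algebra R Z]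
      [CommRing Y'] [Algebra R Y'] {g : Y →ₐ[R] Z} {h : X →ₐ[R] Y} {g' : Y' →ₐ[R] Z} {h' : X →ₐ[R] Y'},
      g.comp h = g'.comp h' → (qm L g).comp (qm L h) = (qm L g').comp (qm L h') := by
    intro X Y Z Y' _ _ _ _ _ _ _ _ g h g' h' e
    refine AlgHom.ext fun x => ?_
    obtain ⟨x, rfl⟩ := Ideal.Quotient.mk_surjective x
    exact congrArg (qk L Z) (DFunLike.congr_fun e x)
  have hmem : ∀ {X Y : Type u} [CommRing X] [Algebra R X] [CommRing Y] [Algebra R Y] (φ : X →ₐ[R] Y),
      ∀ x ∈ K.map (algebraMap R (Qt L X)), qm L φ x ∈ K.map (algebraMap R (Qt L Y)) :=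
    fun φ x hx => mem_map_lin (qm L φ).toLinearMap K hx
  have htr : ∀ {X Y : Type u} [CommRing X] [Algebra R X] [CommRing Y] [Algebra R Y] (φ : X →ₐ[R] Y) (ℓ : Y →ₗ[R] X),
      ℓ 1 = 1 → (∀ b z, ℓ (φ b * z) = b * ℓ z) → IsTr (qm L φ) (K.map (algebraMap R (Qt L Y)))
        (AlgHom.id R (Qt L X)) (K.map (algebraMap R (Qt L X))) (ql L ℓ) := by
    intro X Y _ _ _ _ φ ℓ h1 hl
    refine ⟨(congrArg (qk L X) h1).trans (map_one _), fun b z => ?_, fun x hx => mem_map_lin _ K hx,
      fun x hx y hy => mul_eq_zero_qt hx hy, fun x hx y hy => mul_eq_zero_qt hx hy⟩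
    obtain ⟨b, rfl⟩ := Ideal.Quotient.mk_surjective b
    obtain ⟨z, rfl⟩ := Ideal.Quotient.mk_surjective z
    show ql L ℓ (qk L Y (φ b) * qk L Y z) = qk L X b * ql L ℓ (qk L Y z)
    rw [← map_mul, ql_mk, ql_mk, hl, map_mul]
  let fL := pt (qk L A) ≫ f
  let T₂ := Qt L (A ⊗[R] A)
  have hf' : pt (Ideal.Quotient.mkₐ R (K.map (algebraMap R T₂))) ≫
      ((pt (qm L i₁) ≫ fL) * (pt (qm L i₂) ≫ fL) * (pt (qm L Δ) ≫ fL)⁻¹) = 1 := by
    simp only [fL, pt_assoc, qm_comp_qk, MonObj.comp_mul, GrpObj.comp_inv]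
    let m : Qt K (A ⊗[R] A) →ₐ[R] T₂ ⧸ K.map (algebraMap R T₂) :=
      Ideal.Quotient.liftₐ _ ((Ideal.Quotient.mkₐ R (K.map (algebraMap R T₂))).comp (qk L (A ⊗[R] A))) fun x hx =>
        Ideal.Quotient.eq_zero_iff_mem.2 (mem_map_lin (qk L (A ⊗[R] A)).toLinearMap K hx)
    have h := congrArg (pt m ≫ ·) hf
    simp only [MonObj.comp_mul, GrpObj.comp_inv, pt_assoc, MonObj.comp_one] at h
    exact h
  obtain ⟨f', hf1, hf2⟩ := exists_correction (qm L i₁) (qm L i₂) (qm L Δ) (qm L j₁₂) (qm L j₂₃) (qm L d₁₂) (qm L d₂₃)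
    (ql L E) (ql L I₃) (htr i₁ E hE1 hEl) (htr j₁₂ I₃ hI1 hI) (hmem i₁) (hmem i₂) (hmem Δ) (hmem j₁₂) (hmem j₂₃)
    (hmem d₁₂) (hmem d₂₃) (hcomp hb₁) (hcomp hb₂) (hcomp hb₃) (hcomp hb₄) (hcomp hb₅) (hcomp hco)
    (fun v => by
      obtain ⟨v, rfl⟩ := Ideal.Quotient.mk_surjective v
      exact congrArg (qk L _) (hI₁₂ v).symm)
    (fun v => by
      obtain ⟨v, rfl⟩ := Ideal.Quotient.mk_surjective v
      exact congrArg (qk L _) (hIj v).symm)
    (fun v => by
      obtain ⟨v, rfl⟩ := Ideal.Quotient.mk_surjective v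
      exact congrArg (qk L _) (hI₂₃ v).symm)
    fL hf'
  have hL : L.map (algebraMap R A) = ⊥ := by rw [show L = ⊥ from hK, Ideal.map_bot]
  let r : Qt L A →ₐ[R] A := Ideal.Quotient.liftₐ _ (AlgHom.id R A) fun x hx => by
    rw [hL, Submodule.mem_bot] at hx
    exact hx
  have hr : (qk L A).comp r = AlgHom.id R (Qt L A) := AlgHom.ext fun x => by
    obtain ⟨x, rfl⟩ := Ideal.Quotient.mk_surjective x
    rfl
  obtain ⟨g, hg⟩ : ∃ g : sp R A ⟶ G, pt (qk L A) ≫ g = f' :=
    ⟨pt r ≫ f', by rw [← Category.assoc, ← pt_comp, hr, pt_id', Category.id_comp]⟩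
  refine ⟨g, ?_, ?_⟩
  · let m : Qt L A ⧸ K.map (algebraMap R (Qt L A)) →ₐ[R] Qt K A :=
      Ideal.Quotient.liftₐ _ (Ideal.Quotient.factorₐ R (Ideal.map_mono (Ideal.mul_le_left : L ≤ K))) fun x hx => by
        have := mem_map_lin (Ideal.Quotient.factorₐ R
          (Ideal.map_mono (Ideal.mul_le_left : L ≤ K) : L.map (algebraMap R A) ≤ K.map (algebraMap R A))).toLinearMap K hx
        rwa [IsScalarTower.algebraMap_eq R A (Qt K A), ← Ideal.map_map, Ideal.Quotient.algebraMap_eq,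
          Ideal.map_quotient_self, Submodule.mem_bot] at this
    have e : qk K A = (m.comp (Ideal.Quotient.mkₐ R (K.map (algebraMap R (Qt L A))))).comp (qk L A) := rfl
    rw [e, pt_comp, pt_comp, Category.assoc, Category.assoc, Category.assoc, Category.assoc, hg]
    exact congrArg (pt m ≫ ·) hf1
  · show pt (qk L (A ⊗[R] A)) ≫ _ = 1
    simp only [MonObj.comp_mul, GrpObj.comp_inv, pt_assoc, ← qm_comp_qk]
    simp only [pt_comp, Category.assoc]
    rw [hg]
    exact mul_inv_eq_one.2 hf2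

omit [GrpObj G] in
set_option maxHeartbeats 1000000 in
/-- The restriction is the spectrum of the quotient. -/
theorem exists_res_qt (J : Ideal R) :
    ∃ g : res (jJ J) (sp R A) ⟶ sp R (Qt J A), g ≫ pt (qk J A) = inc (jJ J) (sp R A) ∧
      ∀ (_ : IsIso (inc (jJ J) (sp R (Qt J A)))),
        g ≫ inv (inc (jJ J) (sp R (Qt J A))) ≫ resMap (jJ J) (pt (qk J A)) = 𝟙 _ := by
  -- the restriction factors through the quotient
  let K := R ⧸ J
  let r : Qt J A →ₐ[R] K ⊗[R] A :=
    Ideal.Quotient.liftₐ _ (Algebra.TensorProduct.includeRight : A →ₐ[R] K ⊗[R] A) fun a ha => by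
      have h0 : (Algebra.TensorProduct.includeRight : A →ₐ[R] K ⊗[R] A) a ∈ J.map (algebraMap R (K ⊗[R] A)) :=
        mem_map_lin (Algebra.TensorProduct.includeRight : A →ₐ[R] K ⊗[R] A).toLinearMap J ha
      rw [IsScalarTower.algebraMap_eq R K (K ⊗[R] A), ← Ideal.map_map, Ideal.Quotient.algebraMap_eq,
        Ideal.map_quotient_self, Ideal.map_bot, Submodule.mem_bot] at h0
      exact h0
  have hb := DiagRep.bcHom_includeRight R K A
  let g : res (jJ J) (sp R A) ⟶ sp R (Qt J A) :=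
    Over.homMk ((DiagRep.bcHom R K A).left ≫ Spec.map (CommRingCat.ofHom r.toRingHom)) (by
      have h1 : Spec.map (CommRingCat.ofHom r.toRingHom) ≫ (sp R (Qt J A)).hom =
          Spec.map (CommRingCat.ofHom (Algebra.TensorProduct.includeRight : A →ₐ[R] K ⊗[R] A).toRingHom) ≫
            (sp R A).hom := by
        show Spec.map _ ≫ Spec.map _ = Spec.map _ ≫ Spec.map _
        rw [← Spec.map_comp, ← Spec.map_comp, ← CommRingCat.ofHom_comp, ← CommRingCat.ofHom_comp]
        refine congrArg (fun φ => Spec.map (CommRingCat.ofHom φ)) (RingHom.ext fun x => ?_)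
        exact (r.commutes x).trans ((Algebra.TensorProduct.includeRight : A →ₐ[R] K ⊗[R] A).commutes x).symm
      show ((DiagRep.bcHom R K A).left ≫ Spec.map _) ≫ (sp R (Qt J A)).hom =
        pullback.snd (sp R A).hom (jJ J) ≫ jJ J
      rw [Category.assoc, h1, ← Category.assoc]
      erw [hb]
      exact pullback.condition)
  have hg : g ≫ pt (qk J A) = inc (jJ J) (sp R A) := by
    refine Over.OverMorphism.ext ?_
    rw [inc_left]
    show ((DiagRep.bcHom R K A).left ≫ Spec.map (CommRingCat.ofHom r.toRingHom)) ≫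
      Spec.map (CommRingCat.ofHom (qk J A).toRingHom) = _
    rw [Category.assoc, ← Spec.map_comp, ← CommRingCat.ofHom_comp]
    exact hb
  refine ⟨g, hg, fun _ => ?_⟩
  have hid : g ≫ inv (inc (jJ J) (sp R (Qt J A))) ≫ resMap (jJ J) (pt (qk J A)) = 𝟙 _ := by
    haveI : Mono (inc (jJ J) (sp R A)) := Over.mono_of_mono_left _
    rw [← cancel_mono (inc (jJ J) (sp R A)), Category.assoc, Category.assoc, resMap_inc, IsIso.inv_hom_id_assoc, hg,
      Category.id_comp]
  exact hid

theorem isIso_inc_qt (J : Ideal R) (X : Type u) [CommRing X] [Algebra R X] : IsIso (inc (jJ J) (sp R (Qt J X))) :=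
  isIso_inc (SqLift.toS₀ _ fun r hr => by
    rw [RingHom.mem_ker, IsScalarTower.algebraMap_apply R X (Qt J X), Ideal.Quotient.algebraMap_eq,
      Ideal.Quotient.eq_zero_iff_mem]
    exact Ideal.mem_map_of_mem _ hr)

omit [GrpObj G] in
/-- Morphisms to smooth schemes given over the closed subscheme lift. -/
theorem exists_lift_res {X : Over (Spec (CommRingCat.of R))} [Smooth X.hom] {J : Ideal R} (hJ : IsNilpotent J)
    (ψ : res (jJ J) (sp R A) ⟶ X) : ∃ g : sp R A ⟶ X, inc (jJ J) (sp R A) ≫ g = ψ := by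
  haveI := isIso_inc_qt J A
  obtain ⟨N, hN⟩ := hJ
  have hnil : IsNilpotent (J.map (algebraMap R A)) := ⟨N, by rw [← Ideal.map_pow, hN]; exact Ideal.map_bot⟩
  obtain ⟨g, hg, hid⟩ := exists_res_qt (A := A) J
  obtain ⟨f, hf⟩ := ConjAvg.exists_lift_algebra hnil
    (inv (inc (jJ J) (sp R (Qt J A))) ≫ resMap (jJ J) (pt (qk J A)) ≫ ψ)
  refine ⟨f, ?_⟩
  rw [← hg, Category.assoc, hf, reassoc_of% (hid inferInstance)]

set_option maxHeartbeats 1000000 in
/-- A morphism which is a homomorphism modulo a square-zero ideal can be corrected to a homomorphism. -/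
theorem exists_hom_lift_sq {il : A →ₗ[R] R} (hil : HopfLift.IsIntegral R il) {J : Ideal R} (hJ2 : J * J = ⊥)
    (ψ : Red.bc (jJ J) (sp R A) ⟶ Red.bc (jJ J) G) [IsMonHom ψ]
    (s : sp R A ⟶ G) (hs : (Over.pullback (jJ J)).map s = ψ) :
    ∃ f : sp R A ⟶ G, IsMonHom f ∧ (Over.pullback (jJ J)).map f = ψ := by
  have hk : ∀ (X : Type u) [CommRing X] [Algebra R X], J ≤ RingHom.ker (algebraMap R (Qt J X)) := fun X _ _ r hr => by
    rw [RingHom.mem_ker, IsScalarTower.algebraMap_apply R X (Qt J X), Ideal.Quotient.algebraMap_eq,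
      Ideal.Quotient.eq_zero_iff_mem]
    exact Ideal.mem_map_of_mem _ hr
  haveI hiso : ∀ (X : Type u) [CommRing X] [Algebra R X], IsIso (inc (jJ J) (sp R (Qt J X))) := fun X _ _ =>
    isIso_inc (SqLift.toS₀ _ (hk X))
  let f₀ : sp R (Qt J A) ⟶ G := inv (inc (jJ J) (sp R (Qt J A))) ≫ tau (jJ J) ψ (pt (qk J A))
  have hnat : ∀ φ : A →ₐ[R] A ⊗[R] A, pt (qm J φ) ≫ f₀ =
      inv (inc (jJ J) (sp R (Qt J (A ⊗[R] A)))) ≫ tau (jJ J) ψ (pt (qk J (A ⊗[R] A)) ≫ pt φ) := by
    intro φ
    rw [← pt_comp, ← qm_comp_qk, pt_comp, tau_comp, ← Category.assoc, ← Category.assoc]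
    congr 1
    rw [← cancel_mono (inc (jJ J) (sp R (Qt J A))), Category.assoc, Category.assoc, IsIso.inv_hom_id,
      Category.comp_id, resMap_inc, IsIso.inv_hom_id_assoc]
  have hs₀ : pt (qk J A) ≫ s = f₀ := by
    have h := (tau_eq_iff (jJ J) ψ (pt (qk J A)) (pt (qk J A) ≫ s)).2 (by rw [Functor.map_comp, hs])
    show _ = inv (inc (jJ J) (sp R (Qt J A))) ≫ tau (jJ J) ψ (pt (qk J A))
    rw [← h, IsIso.inv_hom_id_assoc]
  have hc : Compat J s := by
    show pt (qk J (A ⊗[R] A)) ≫ _ = 1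
    simp only [MonObj.comp_mul, GrpObj.comp_inv, pt_assoc, ← qm_comp_qk]
    simp only [pt_comp, Category.assoc]
    rw [hs₀]
    refine mul_inv_eq_one.2 ?_
    rw [hnat, hnat, hnat, ← MonObj.comp_mul, ← tau_mul, ← MonObj.comp_mul, DiagRep.pt_mul_conv,
      ← DiagRep.toConv_comul]
  obtain ⟨f, hfs, hf⟩ := exists_step_sq hil hJ2 s hc
  have hf0 : pt (qk J A) ≫ f = f₀ := hfs.trans hs₀
  haveI hfm : IsMonHom f := isMonHom_of_mul f (by
    let X := A ⊗[R] A
    let r : Qt (J * J) X →ₐ[R] X := Ideal.Quotient.liftₐ _ (AlgHom.id R X) fun x hx => by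
      rw [hJ2, Ideal.map_bot, Submodule.mem_bot] at hx
      exact hx
    have e : r.comp (qk (J * J) X) = AlgHom.id R X := rfl
    have h := congrArg (pt r ≫ ·) hf
    simp only [MonObj.comp_one, ← Category.assoc, ← pt_comp] at h
    erw [e, pt_id', Category.id_comp] at h
    exact mul_inv_eq_one.1 h)
  refine ⟨f, hfm, ?_⟩
  obtain ⟨g, hg, hid'⟩ := exists_res_qt (A := A) J
  have hid := hid' (hiso A)
  have h : inc (jJ J) (sp R A) ≫ f = tau (jJ J) ψ (𝟙 (sp R A)) := by
    rw [← hg, Category.assoc, hf0]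
    show g ≫ inv _ ≫ tau (jJ J) ψ (pt (qk J A)) = _
    rw [← Category.comp_id (pt (qk J A)), tau_comp, ← Category.assoc (inv _), ← Category.assoc g, hid,
      Category.id_comp]
  rw [(tau_eq_iff (jJ J) ψ (𝟙 _) f).1 h, CategoryTheory.Functor.map_id, Category.id_comp]

end Groth.Agent.HomCorr
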